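import Groth.Agent.FormalB.PpIso507
import Groth.Agent.Pic13.H504.Push
import Groth.Agent.FCompl.K28.LevelBC

/-!
# Kernel and cokernel of the unit `Γ(L, S) → Γ(p^* L, Z)` of a proper morphism which is an isomorphism over `D(g)`,
`g ∈ G`: both are killed by a power of the ideal generated by `G`
-/

set_option autoImplicit false
set_option linter.style.haveILetI false

universe u

open CategoryTheory CategoryTheory.Limits AlgebraicGeometry TopologicalSpace Opposite
open Groth.Agent Groth.Agent.VarietyB.PullSec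

noncomputable section

namespace K919.AlgKill

/-- A finitely generated module in which every element is killed by a power of every `g ∈ G`. -/
theorem exists_pow_smul {B : Type u} [CommRing B] [IsNoetherianRing B] (G : Set B) (N : Type u) [AddCommGroup N]
    [Module B N] [Module.Finite B N] (h : ∀ g ∈ G, ∀ x : N, ∃ k : ℕ, g ^ k • x = 0) :
    ∃ n : ℕ, ∀ a ∈ Ideal.span G ^ n, ∀ x : N, a • x = 0 := by
  have h1 : Ideal.span G ≤ (Module.annihilator B N).radical := by
    rw [Ideal.span_le]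
    intro g hg
    obtain ⟨s, hs⟩ := Module.Finite.fg_top (R := B) (M := N)
    choose k hk using fun x : N => h g hg x
    refine ⟨s.sup k, ?_⟩
    rw [Module.mem_annihilator]
    intro x
    have hx : x ∈ Submodule.span B (s : Set N) := by rw [hs]; trivial
    induction hx using Submodule.span_induction with
    | mem y hy =>
      obtain ⟨d, hd⟩ := Nat.exists_eq_add_of_le (Finset.le_sup (f := k) hy)
      rw [hd, add_comm, pow_add, mul_smul, hk, smul_zero]
    | zero => rw [smul_zero]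
    | add y z _ _ hy hz => rw [smul_add, hy, hz, add_zero]
    | smul b y _ hy => rw [smul_comm, hy, smul_zero]
  obtain ⟨n, hn⟩ := Ideal.exists_pow_le_of_le_radical_of_fg h1 (IsNoetherian.noetherian _)
  exact ⟨n, fun a ha x => Module.mem_annihilator.1 (hn ha) x⟩

theorem exists_kill {S Z : Scheme.{u}} [IsAffine S] [IsLocallyNoetherian S] (p : Z ⟶ S) [IsProper p] {L : S.Modules}
    (hL : Coh.IsCoh L) (G : Set Γ(S, ⊤)) (h : ∀ g ∈ G, IsIso (p ∣_ S.basicOpen g)) :
    ∃ n : ℕ, (∀ a ∈ Ideal.span G ^ n, ∀ m : Γ(L, ⊤), sec p L (U := ⊤) (V := ⊤) le_top m = 0 → a • m = 0) ∧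
      (∀ a ∈ Ideal.span G ^ n, ∀ y : Γ((Scheme.Modules.pullback p).obj L, ⊤),
        ∃ m : Γ(L, ⊤), sec p L (U := ⊤) (V := ⊤) le_top m = p.appTop a • y) := by
  have hN : IsNoetherianRing Γ(S, ⊤) := IsLocallyNoetherian.component_noetherian ⟨⊤, isAffineOpen_top S⟩
  have hf1 : Module.Finite Γ(S, ⊤) Γ(L, ⊤) := K28.LevelBC.finite_sections hL (isAffineOpen_top S)
  let F := (Scheme.Modules.pullback p).obj L
  have hF : Coh.IsCoh F := FormalA.PullbackQC.isCoh_pullback p L hL
  have hpF : Coh.IsCoh ((Scheme.Modules.pushforward p).obj F) :=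
    Groth.Agent.Pic13.H504.Push.isCoh_pushforward p _ hF
  have hf2 : Module.Finite Γ(S, ⊤) Γ((Scheme.Modules.pushforward p).obj F, ⊤) :=
    K28.LevelBC.finite_sections hpF (isAffineOpen_top S)
  have hsm : ∀ (a : Γ(S, ⊤)) (y : Γ((Scheme.Modules.pushforward p).obj F, ⊤)),
      a • y = (show Γ((Scheme.Modules.pushforward p).obj F, ⊤) from
        (p.appTop a • (show Γ(F, ⊤) from y) : Γ(F, ⊤))) := fun a y => rfl
  let σ : Γ(L, ⊤) →ₗ[Γ(S, ⊤)] Γ((Scheme.Modules.pushforward p).obj F, ⊤) :=
    { toFun := fun m => (show Γ((Scheme.Modules.pushforward p).obj F, ⊤) from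
        (sec p L (U := ⊤) (V := ⊤) le_top m : Γ(F, ⊤)))
      map_add' := fun a b => map_add (sec p L (U := ⊤) (V := ⊤) le_top) a b
      map_smul' := fun a m => by
        rw [RingHom.id_apply, hsm]
        refine (sec_smul p L (U := ⊤) (V := ⊤) le_top a m).trans ?_
        have e3 : p.appLE ⊤ ⊤ le_top = p.appTop := by
          rw [Scheme.Hom.appLE, Scheme.Hom.appTop]
          exact (congr(p.app ⊤ ≫ $(Z.presheaf.map_id (op ⊤)))).trans (Category.comp_id _)
        rw [e3] }
  have hmain := fun g hg => FormalB.PpIso507.main p hL.1 g (h g hg)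
  obtain ⟨n1, hn1⟩ := exists_pow_smul G (LinearMap.ker σ) fun g hg x => by
    obtain ⟨k, hk⟩ := (hmain g hg).1 x.1 x.2
    exact ⟨k, Subtype.ext hk⟩
  obtain ⟨n2, hn2⟩ := exists_pow_smul G (Γ((Scheme.Modules.pushforward p).obj F, ⊤) ⧸ LinearMap.range σ)
    fun g hg x => by
      obtain ⟨y, rfl⟩ := Submodule.mkQ_surjective _ x
      obtain ⟨k, m, hk⟩ := (hmain g hg).2 y
      refine ⟨k, ?_⟩
      rw [← map_smul, Submodule.mkQ_apply, Submodule.Quotient.mk_eq_zero]
      refine ⟨m, ?_⟩
      rw [hsm, map_pow]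
      exact hk
  refine ⟨n1 + n2, fun a ha m hm => ?_, fun a ha y => ?_⟩
  · have := hn1 a (Ideal.pow_le_pow_right (Nat.le_add_right _ _) ha) ⟨m, hm⟩
    exact congrArg Subtype.val this
  · have h3 := hn2 a (Ideal.pow_le_pow_right (Nat.le_add_left _ _) ha) (Submodule.mkQ _ y)
    rw [← map_smul, Submodule.mkQ_apply, Submodule.Quotient.mk_eq_zero] at h3
    obtain ⟨m, hm⟩ := h3
    exact ⟨m, hm⟩

end K919.AlgKill
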