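import Groth.Agent.CohqB.FullFaith
import Groth.Agent.FormalB.ModPowAff
import Groth.Agent.S0003

/-!
# Formal functions in degree zero, on a basis of affine opens

`X` proper over the `I`-adically complete Noetherian ring `A`, `M` coherent, `W i` affine opens forming a basis-like
cover.
* `exists_sec`: families `m i n ∈ Γ(M, W i)` compatible modulo `I ^ (n + 1)` come from a global section;
* `sec_eq_zero`: a global section whose restrictions to the `W i` lie in all `I ^ (n + 1) Γ(M, W i)` vanishes.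
-/

set_option autoImplicit false
set_option linter.style.haveILetI false

universe v u

open CategoryTheory CategoryTheory.Limits AlgebraicGeometry TopologicalSpace Opposite
open Groth.Agent Groth.Agent.Ega1.QCohLoc Groth.Agent.FormalB.ModPowAff

noncomputable section

namespace K919.FF0

variable {A : Type u} [CommRing A] (I : Ideal A) {X : Scheme.{u}} [X.Over (Spec (CommRingCat.of A))]
  {M : X.Modules}

/-- `I ^ n Γ(M, W)`. -/
abbrev IS (M : X.Modules) (W : X.Opens) (n : ℕ) : Submodule Γ(X, W) Γ(M, W) := (I.map (toΓ A X W)) ^ n • ⊤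

variable [IsNoetherianRing A] [IsAdicComplete I A] [IsProper (X ↘ Spec (CommRingCat.of A))] (hM : Coh.IsCoh M)
  {ι : Type v} (W : ι → X.Opens) (hW : ∀ i, IsAffineOpen (W i)) (hcov : ∀ x : X, ∃ i, x ∈ W i)

include hM hW hcov

theorem sec_eq_zero (s : Γ(M, ⊤)) (hs : ∀ i n, res M le_top s ∈ IS I M (W i) (n + 1)) : s = 0 := by
  have hc : (⊤ : X.Opens) ≤ ⨆ i, W i := fun x _ => Opens.mem_iSup.2 (hcov x)
  obtain ⟨t, -, ht⟩ := CohqB.FullFaith.existsUnique_section_of_bijective I M (S0003.result A I X M hM 0)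
    (fun n => 0) (fun n => map_zero _)
  refine (ht s fun n => ?_).trans (ht 0 fun n => map_zero _).symm
  refine eq_of_locally_eq _ W ⊤ (fun i => le_top) hc _ _ fun i => ?_
  rw [← res_app, map_zero]
  exact (modPowπ_app_eq_zero_iff I (n + 1) M hM.1 (hW i) _).2 (hs i n)

theorem exists_sec (r : ι → ι → Prop) (hr : ∀ i j, r i j → W i ≤ W j)
    (hd : ∀ i j x, x ∈ W i → x ∈ W j → ∃ k, x ∈ W k ∧ r k i ∧ r k j) (m : ∀ i, ℕ → Γ(M, W i))
    (hm : ∀ i k (h : r k i) n, res M (hr k i h) (m i n) - m k n ∈ IS I M (W k) (n + 1))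
    (hn : ∀ i n, m i (n + 1) - m i n ∈ IS I M (W i) (n + 1)) :
    ∃ s : Γ(M, ⊤), ∀ i n, res M le_top s - m i n ∈ IS I M (W i) (n + 1) := by
  have hc : (⊤ : X.Opens) ≤ ⨆ i, W i := fun x _ => Opens.mem_iSup.2 (hcov x)
  have hπ : ∀ i n (x y : Γ(M, W i)), (Formal.modPowπ I (n + 1) M).app (W i) x =
      (Formal.modPowπ I (n + 1) M).app (W i) y ↔ x - y ∈ IS I M (W i) (n + 1) := by
    intro i n x y
    rw [← sub_eq_zero, ← map_sub]
    exact modPowπ_app_eq_zero_iff I (n + 1) M hM.1 (hW i) _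
  have hres : ∀ i k (h : r k i) n, res _ (hr k i h) ((Formal.modPowπ I (n + 1) M).app (W i) (m i n)) =
      (Formal.modPowπ I (n + 1) M).app (W k) (m k n) := by
    intro i k h n
    rw [← res_app, hπ]
    exact hm i k h n
  have glue : ∀ n, ∃ t : Γ(Formal.modPow I (n + 1) M, ⊤), ∀ i, res _ le_top t =
      (Formal.modPowπ I (n + 1) M).app (W i) (m i n) := by
    intro n
    refine exists_gluing _ W ⊤ (fun i => le_top) hc _ fun i j => ?_
    refine eq_of_locally_eq _ (fun k : {k : ι // r k i ∧ r k j} => W k.1) _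
      (fun k => le_inf (hr _ _ k.2.1) (hr _ _ k.2.2)) ?_ _ _ ?_
    · intro x hx
      obtain ⟨k, hxk, h1, h2⟩ := hd i j x hx.1 hx.2
      exact Opens.mem_iSup.2 ⟨⟨k, h1, h2⟩, hxk⟩
    · intro k
      rw [res_res, res_res, hres i k.1 k.2.1, hres j k.1 k.2.2]
  choose σ hσ using glue
  obtain ⟨s, hs, -⟩ := CohqB.FullFaith.existsUnique_section_of_bijective I M (S0003.result A I X M hM 0)
    σ (fun n => by
      refine eq_of_locally_eq _ W ⊤ (fun i => le_top) hc _ _ fun i => ?_
      rw [← res_app, hσ, hσ, ← (hπ i n _ _).2 (hn i n)]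
      exact congrArg (fun φ : M ⟶ Formal.modPow I (n + 1) M => φ.app (W i) (m i (n + 1)))
        (Formal.modPowπ_trans I (n + 1) M))
  refine ⟨s, fun i n => ?_⟩
  rw [← hπ, res_app, hs, hσ]

end K919.FF0
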