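import Groth.Agent.FSch.K919.ZBMod
import Groth.Agent.FSch.K919.FF0
import Groth.Agent.FSch.K919.AlgKill

/-!
# Kernel and cokernel of `𝔉(U^) → (φ^* 𝔉)(φ⁻¹ U^)` for a proper `f : Z ⟶ X` which is an isomorphism over `D(g)`, `g ∈ G`

`U` affine, `B = O_𝔛(U^)`: both are killed by a power of the ideal of `B` generated by `G`.
-/

set_option autoImplicit false
set_option linter.style.haveILetI false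
set_option linter.unusedSectionVars false
universe u

open CategoryTheory TopologicalSpace Opposite CategoryTheory.Limits AlgebraicGeometry

noncomputable section

namespace K919.ZB

open K29.RSec K29.RStalk K29.RPull K29.RPres K29.Fml K29.Cmpl K29.FmlPull
open K919.ModI
open K28 (SBC)
open Groth.Agent.VarietyB

theorem exists_aff {Z : Scheme.{u}} (z : Z) (V : Z.Opens) (hz : z ∈ V) :
    ∃ W : Z.affineOpens, z ∈ W.1 ∧ W.1 ≤ V := by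
  obtain ⟨W, hW, hxW, hWle⟩ := Opens.isBasis_iff_nbhd.mp Z.isBasis_affineOpens hz
  exact ⟨⟨W, hW⟩, hxW, hWle⟩

variable {𝔛 𝔷 : FSch.Sys.{u}} {X Z : Scheme.{u}} {f : Z ⟶ X}
  (pX : ∀ n, 𝔛.X n ⟶ X) (hpX : ∀ n, 𝔛.ι n ≫ pX (n + 1) = pX n)
  (pZ : ∀ n, 𝔷.X n ⟶ Z) (hpZ : ∀ n, 𝔷.ι n ≫ pZ (n + 1) = pZ n)
  (h𝔛 : 𝔛.IsLocNoethFormal) (h𝔷 : 𝔷.IsLocNoethFormal) (φ : 𝔷 ⟶ 𝔛)
  (hsq : ∀ n, pZ n ≫ f = (φ : FSch.Hom 𝔷 𝔛).app n ≫ pX n)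
  {U : X.Opens} (hU : IsAffineOpen U)
  [∀ n, IsClosedImmersion (pX n)] [∀ n, IsClosedImmersion (pZ n)]
  {P : Scheme.{u}} {g : P ⟶ Z} (p : P ⟶ Spec (BU pX h𝔛 U)) (H : IsPullback g p f (bB pX hpX h𝔛 hU))
  [IsLocallyNoetherian X] [IsLocallyNoetherian Z] (𝓘 : X.IdealSheafData) (hJX : ∀ n, (pX n).ker = 𝓘 ^ (n + 1))
  (hJZ : ∀ n, (pZ n).ker = (𝓘.comap f) ^ (n + 1))
  {𝔉 : FSch.ModF 𝔛 h𝔛.1} (h𝔉 : FSch.IsCohF 𝔛 h𝔛.1 𝔉)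

/-- The sheaf `φ^* 𝔉`. -/
abbrev GG (𝔉 : FSch.ModF 𝔛 h𝔛.1) : FSch.ModF 𝔷 h𝔷.1 := (FSch.pullF φ h𝔷.1 h𝔛.1).obj 𝔉

/-- `II ^ (n + 1)` extended to `O_𝔷(W^)`, times `(φ^* 𝔉)(W^)`. -/
def KK {W : Z.Opens} (hWU : W ≤ f ⁻¹ᵁ U) (𝔉 : FSch.ModF 𝔛 h𝔛.1) (n : ℕ) :
    Submodule (O (𝔷.Osh h𝔷.1) (pre (pZ 0).base W)) (Sec (GG h𝔛 h𝔷 φ 𝔉) (pre (pZ 0).base W)) :=
  (II h𝔛.1 (pre (pX 0).base U) ^ (n + 1)).map (bb pX pZ h𝔛 h𝔷 φ hsq hWU) • ⊤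

section KK

variable {W W' : Z.Opens} (hWU : W ≤ f ⁻¹ᵁ U) (hW : IsAffineOpen W)
  (hWU' : W' ≤ f ⁻¹ᵁ U) (hle : W' ≤ W)

theorem res_mem_KK (n : ℕ) (x : Sec (GG h𝔛 h𝔷 φ 𝔉) (pre (pZ 0).base W))
    (hx : x ∈ KK pX pZ h𝔛 h𝔷 φ hsq hWU 𝔉 n) :
    res _ (pre_mono (pZ 0).base hle) x ∈ KK pX pZ h𝔛 h𝔷 φ hsq hWU' 𝔉 n := by
  have hb : bb pX pZ h𝔛 h𝔷 φ hsq hWU' = (resO (R := 𝔷.Osh h𝔷.1) (pre_mono (pZ 0).base hle)).comp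
      (bb pX pZ h𝔛 h𝔷 φ hsq hWU) := RingHom.ext fun b => (resO_resO _ _ _).symm
  unfold KK at hx ⊢
  induction hx using Submodule.smul_induction_on' with
  | smul r hr z hz =>
    rw [res_smul]
    refine Submodule.smul_mem_smul ?_ trivial
    rw [hb, ← Ideal.map_map]
    exact Ideal.mem_map_of_mem _ hr
  | add y hy z hz h1 h2 => rw [map_add]; exact Submodule.add_mem _ h1 h2

include hJX hJZ hU hW hpX hpZ in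
theorem map_II_eq : (II h𝔛.1 (pre (pX 0).base U)).map (bb pX pZ h𝔛 h𝔷 φ hsq hWU) =
    II h𝔷.1 (pre (pZ 0).base W) := by
  rw [← map_JJ pX hpX h𝔛 𝓘 hJX hU, ← map_JJ pZ hpZ h𝔷 (𝓘.comap f) hJZ hW, Ideal.map_map]
  have e1 : (bb pX pZ h𝔛 h𝔷 φ hsq hWU).comp (cm (sφ h𝔛.1 pX hpX) U) =
      ((cm (sφ h𝔷.1 pZ hpZ) W : Γ(Z, W) →+* _).comp (f.appLE U W hWU).hom : Γ(X, U) →+* _) :=
    RingHom.ext fun a => bb_cm pX hpX pZ hpZ h𝔛 h𝔷 φ hsq hWU a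
  have e2 : JJ (𝓘.comap f) hW = (𝓘.ideal ⟨U, hU⟩).map (f.appLE U W hWU).hom :=
    Groth.Agent.Divis.IdealComap.ideal_comap 𝓘 f ⟨U, hU⟩ ⟨W, hW⟩ hWU
  have e3 : (JJ 𝓘 hU).map ((bb pX pZ h𝔛 h𝔷 φ hsq hWU).comp (cm (sφ h𝔛.1 pX hpX) U)) =
      (𝓘.ideal ⟨U, hU⟩).map ((cm (sφ h𝔷.1 pZ hpZ) W : Γ(Z, W) →+* _).comp (f.appLE U W hWU).hom) :=
    congrArg (fun t => (𝓘.ideal ⟨U, hU⟩).map t) e1
  rw [e3, e2]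
  exact (Ideal.map_map _ _).symm

include hJX hJZ hU hW hpX hpZ h𝔉 in
theorem eq_zero_of_KK (x : Sec (GG h𝔛 h𝔷 φ 𝔉) (pre (pZ 0).base W))
    (hx : ∀ n, x ∈ KK pX pZ h𝔛 h𝔷 φ hsq hWU 𝔉 n) : x = 0 := by
  have h1 := (main h𝔷 (isCohF_pullF h𝔷 φ h𝔛 h𝔉) (isAffineOpen_pre h𝔷.1 pZ hW)).1
  refine h1.toIsHausdorff.haus x fun n => ?_
  rw [SModEq.zero]
  have h2 := hx n
  unfold KK at h2
  rw [Ideal.map_pow, map_II_eq pX hpX pZ hpZ h𝔛 h𝔷 φ hsq hU 𝓘 hJX hJZ hWU hW] at h2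
  exact Submodule.smul_mono_left (Ideal.pow_le_pow_right (Nat.le_succ n)) h2

end KK

section Loc

variable {W : Z.Opens} (hWU : W ≤ f ⁻¹ᵁ U) (hW : IsAffineOpen W)

/-- `F = p^* M~`. -/
abbrev FF (𝔉 : FSch.ModF 𝔛 h𝔛.1) : P.Modules := (Scheme.Modules.pullback p).obj (tilde (MU pX h𝔛 𝔉 U))

/-- `II ^ (n + 1) Γ(F, V)`. -/
def JF (𝔉 : FSch.ModF 𝔛 h𝔛.1) (V : P.Opens) (n : ℕ) : Submodule Γ(P, V) Γ(FF pX h𝔛 p 𝔉, V) :=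
  (II h𝔛.1 (pre (pX 0).base U) ^ (n + 1)).map (toB pX h𝔛 p V) • ⊤

include hJX hJZ in
theorem exists_sub_mem (n : ℕ) (y : Sec (GG h𝔛 h𝔷 φ 𝔉) (pre (pZ 0).base W)) :
    ∃ s : Γ(FF pX h𝔛 p 𝔉, g ⁻¹ᵁ W), y - cW pX hpX pZ hpZ h𝔛 h𝔷 φ hsq hU hWU hW p H h𝔉 s ∈
      KK pX pZ h𝔛 h𝔷 φ hsq hWU 𝔉 n := by
  obtain ⟨s, hs⟩ := (modIso_gam pX hpX pZ hpZ h𝔛 h𝔷 φ hsq hU hWU hW p H 𝓘 hJX hJZ n).sbc_surj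
    (sbc_cW pX hpX pZ hpZ h𝔛 h𝔷 φ hsq hU h𝔉 hWU hW p H) y
  refine ⟨s, ?_⟩
  have e1 : (gam pX hpX pZ hpZ h𝔛 h𝔷 φ hsq hU hWU hW p H).comp (toB pX h𝔛 p (g ⁻¹ᵁ W)) =
      bb pX pZ h𝔛 h𝔷 φ hsq hWU := RingHom.ext fun b => gam_toB pX hpX pZ hpZ h𝔛 h𝔷 φ hsq hU hWU hW p H b
  rw [Ideal.map_map, e1] at hs
  exact hs

include hJX hJZ in
theorem mem_JF_of_cW (n : ℕ) (s : Γ(FF pX h𝔛 p 𝔉, g ⁻¹ᵁ W))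
    (hs : cW pX hpX pZ hpZ h𝔛 h𝔷 φ hsq hU hWU hW p H h𝔉 s ∈ KK pX pZ h𝔛 h𝔷 φ hsq hWU 𝔉 n) :
    s ∈ JF pX h𝔛 p 𝔉 (g ⁻¹ᵁ W) n := by
  refine (modIso_gam pX hpX pZ hpZ h𝔛 h𝔷 φ hsq hU hWU hW p H 𝓘 hJX hJZ n).sbc_inj
    (sbc_cW pX hpX pZ hpZ h𝔛 h𝔷 φ hsq hU h𝔉 hWU hW p H) s ?_
  have e1 : (gam pX hpX pZ hpZ h𝔛 h𝔷 φ hsq hU hWU hW p H).comp (toB pX h𝔛 p (g ⁻¹ᵁ W)) =
      bb pX pZ h𝔛 h𝔷 φ hsq hWU := RingHom.ext fun b => gam_toB pX hpX pZ hpZ h𝔛 h𝔷 φ hsq hU hWU hW p H b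
  rw [Ideal.map_map, e1]
  exact hs

theorem cW_mem_KK (n : ℕ) (s : Γ(FF pX h𝔛 p 𝔉, g ⁻¹ᵁ W)) (hs : s ∈ JF pX h𝔛 p 𝔉 (g ⁻¹ᵁ W) n) :
    cW pX hpX pZ hpZ h𝔛 h𝔷 φ hsq hU hWU hW p H h𝔉 s ∈ KK pX pZ h𝔛 h𝔷 φ hsq hWU 𝔉 n := by
  have e1 : (gam pX hpX pZ hpZ h𝔛 h𝔷 φ hsq hU hWU hW p H).comp (toB pX h𝔛 p (g ⁻¹ᵁ W)) =
      bb pX pZ h𝔛 h𝔷 φ hsq hWU := RingHom.ext fun b => gam_toB pX hpX pZ hpZ h𝔛 h𝔷 φ hsq hU hWU hW p H b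
  unfold JF at hs
  unfold KK
  induction hs using Submodule.smul_induction_on' with
  | smul r hr z hz =>
    rw [(sbc_cW pX hpX pZ hpZ h𝔛 h𝔷 φ hsq hU h𝔉 hWU hW p H).smul]
    refine Submodule.smul_mem_smul ?_ trivial
    rw [← e1, ← Ideal.map_map]
    exact Ideal.mem_map_of_mem _ hr
  | add y hy z hz h1 h2 => rw [map_add]; exact Submodule.add_mem _ h1 h2

end Loc

/-! ### Global sections over `P` -/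

/-- The affine opens of `Z` over `U`. -/
def Idx (f : Z ⟶ X) (U : X.Opens) : Type u := {W : Z.affineOpens // W.1 ≤ f ⁻¹ᵁ U}

include H in
theorem exists_idx (x : P) (V : Z.Opens) (hx : g x ∈ V) : ∃ i : Idx f U, x ∈ g ⁻¹ᵁ i.1.1 ∧ i.1.1 ≤ V := by
  have h1 : f (g x) ∈ U := by
    have h2 : f (g x) = (bB pX hpX h𝔛 hU) (p x) := by
      rw [← Scheme.Hom.comp_apply, H.w, Scheme.Hom.comp_apply]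
    rw [h2]
    exact top_le_bB pX hpX h𝔛 hU trivial
  obtain ⟨W, hW, hWle⟩ := exists_aff (g x) (f ⁻¹ᵁ U ⊓ V) ⟨h1, hx⟩
  exact ⟨⟨W, hWle.trans inf_le_left⟩, hW, hWle.trans inf_le_right⟩

theorem toΓ_eq (V : P.Opens) : letI : P.Over (Spec (BU pX h𝔛 U)) := ⟨p⟩
    Groth.Agent.FormalB.ModPowAff.toΓ (O (𝔛.Osh h𝔛.1) (pre (pX 0).base U)) P V = toB pX h𝔛 p V := rfl

theorem IS_eq (V : P.Opens) (n : ℕ) : letI : P.Over (Spec (BU pX h𝔛 U)) := ⟨p⟩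
    FF0.IS (II h𝔛.1 (pre (pX 0).base U)) (FF pX h𝔛 p 𝔉) V (n + 1) = JF pX h𝔛 p 𝔉 V n := by
  unfold FF0.IS JF
  rw [Ideal.map_pow, toΓ_eq]

section Glob

variable [IsProper p]

include hJX hJZ hpZ hsq H h𝔉 in
/-- Injectivity: an element of `M` which vanishes in `(φ^* 𝔉)(φ⁻¹ U^)` vanishes in `Γ(P, F)`. -/
theorem mu_top_eq_zero (m : Sec 𝔉 (pre (pX 0).base U)) (hm : us (fAdj h𝔷 φ h𝔛) (pre (pX 0).base U) m = 0) :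
    mu (MU pX h𝔛 𝔉 U) p ⊤ m = 0 := by
  have hUa : IsAffineOpen (𝔛.lvU h𝔛.1 0 (pre (pX 0).base U)) := isAffineOpen_pre h𝔛.1 pX hU
  have i1 := isAdicComplete_II h𝔛 hUa
  have i2 := isNoetherianRing_O h𝔛 hUa
  have i3 : Module.Finite (O (𝔛.Osh h𝔛.1) (pre (pX 0).base U)) (Sec 𝔉 (pre (pX 0).base U)) := (main h𝔛 h𝔉 hUa).2.2
  letI i4 : P.Over (Spec (BU pX h𝔛 U)) := ⟨p⟩
  have i5 : IsProper (P ↘ Spec (CommRingCat.of (O (𝔛.Osh h𝔛.1) (pre (pX 0).base U)))) := inferInstanceAs (IsProper p)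
  have hL : Coh.IsCoh (tilde (MU pX h𝔛 𝔉 U)) := Groth.Agent.Ega1.ExtendAff2.isCoh_tilde _
  have hF : Coh.IsCoh (FF pX h𝔛 p 𝔉) := Groth.Agent.FormalA.PullbackQC.isCoh_pullback p _ hL
  refine FF0.sec_eq_zero (II h𝔛.1 (pre (pX 0).base U)) hF (fun i : Idx f U => g ⁻¹ᵁ i.1.1)
    (fun i => isAffineOpen_g pX hpX h𝔛 hU i.2 p H i.1.2) (fun x => ?_) _ fun i n => ?_
  · obtain ⟨i, hi, -⟩ := exists_idx pX hpX h𝔛 hU p H x ⊤ trivial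
    exact ⟨i, hi⟩
  · rw [IS_eq]
    have e1 : Groth.Agent.Ega1.QCohLoc.res (FF pX h𝔛 p 𝔉) (le_top : g ⁻¹ᵁ i.1.1 ≤ ⊤) (mu (MU pX h𝔛 𝔉 U) p ⊤ m) =
        mu (MU pX h𝔛 𝔉 U) p (g ⁻¹ᵁ i.1.1) m := mu_res _ _ _ _
    rw [e1]
    refine mem_JF_of_cW pX hpX pZ hpZ h𝔛 h𝔷 φ hsq hU p H 𝓘 hJX hJZ h𝔉 i.2 i.1.2 n _ ?_
    rw [cW_mu]
    have e2 : ups pX pZ h𝔛 h𝔷 φ hsq i.2 𝔉 m = 0 := by
      change res _ _ (us (fAdj h𝔷 φ h𝔛) (pre (pX 0).base U) m) = 0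
      rw [hm, map_zero]
    rw [e2]
    exact Submodule.zero_mem _

include hJX hJZ in
/-- Surjectivity: sections of `φ^* 𝔉` over `φ⁻¹ U^` come from `Γ(P, F)`. -/
theorem exists_glob (y : Sec (GG h𝔛 h𝔷 φ 𝔉) (pre ((φ : FSch.Hom 𝔷 𝔛).app 0).base (pre (pX 0).base U))) :
    ∃ s : Γ(FF pX h𝔛 p 𝔉, ⊤), ∀ i : Idx f U,
      cW pX hpX pZ hpZ h𝔛 h𝔷 φ hsq hU i.2 i.1.2 p H h𝔉
        ((FF pX h𝔛 p 𝔉).presheaf.map (homOfLE (le_top : g ⁻¹ᵁ i.1.1 ≤ ⊤)).op s) =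
      res _ (pre_le pX pZ φ hsq i.2) y := by
  have hUa : IsAffineOpen (𝔛.lvU h𝔛.1 0 (pre (pX 0).base U)) := isAffineOpen_pre h𝔛.1 pX hU
  have i1 := isAdicComplete_II h𝔛 hUa
  have i2 := isNoetherianRing_O h𝔛 hUa
  have i3 : Module.Finite (O (𝔛.Osh h𝔛.1) (pre (pX 0).base U)) (Sec 𝔉 (pre (pX 0).base U)) := (main h𝔛 h𝔉 hUa).2.2
  letI i4 : P.Over (Spec (BU pX h𝔛 U)) := ⟨p⟩
  have i5 : IsProper (P ↘ Spec (CommRingCat.of (O (𝔛.Osh h𝔛.1) (pre (pX 0).base U)))) := inferInstanceAs (IsProper p)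
  have hL : Coh.IsCoh (tilde (MU pX h𝔛 𝔉 U)) := Groth.Agent.Ega1.ExtendAff2.isCoh_tilde _
  have hF : Coh.IsCoh (FF pX h𝔛 p 𝔉) := Groth.Agent.FormalA.PullbackQC.isCoh_pullback p _ hL
  choose m hm using fun (i : Idx f U) (n : ℕ) => exists_sub_mem pX hpX pZ hpZ h𝔛 h𝔷 φ hsq hU p H 𝓘 hJX hJZ h𝔉 i.2 i.1.2
    n (res _ (pre_le pX pZ φ hsq i.2) y)
  have hKK : ∀ (i : Idx f U) (n : ℕ) (x : Sec (GG h𝔛 h𝔷 φ 𝔉) (pre (pZ 0).base i.1.1)),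
      x ∈ KK pX pZ h𝔛 h𝔷 φ hsq i.2 𝔉 (n + 1) → x ∈ KK pX pZ h𝔛 h𝔷 φ hsq i.2 𝔉 n := fun i n x hx =>
    Submodule.smul_mono_left (Ideal.map_mono (Ideal.pow_le_pow_right (Nat.le_succ _))) hx
  obtain ⟨s, hs⟩ := FF0.exists_sec (II h𝔛.1 (pre (pX 0).base U)) hF (fun i : Idx f U => g ⁻¹ᵁ i.1.1)
    (fun i => isAffineOpen_g pX hpX h𝔛 hU i.2 p H i.1.2)
    (fun x => by
      obtain ⟨i, hi, -⟩ := exists_idx pX hpX h𝔛 hU p H x ⊤ trivial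
      exact ⟨i, hi⟩) (fun k i => k.1.1 ≤ i.1.1) (fun k i h => Scheme.Hom.preimage_mono g h)
    (fun i j x hi hj => by
      obtain ⟨k, hk, hkle⟩ := exists_idx pX hpX h𝔛 hU p H x (i.1.1 ⊓ j.1.1) ⟨hi, hj⟩
      exact ⟨k, hk, hkle.trans inf_le_left, hkle.trans inf_le_right⟩) m
    (fun i k h n => by
      rw [IS_eq]
      refine mem_JF_of_cW pX hpX pZ hpZ h𝔛 h𝔷 φ hsq hU p H 𝓘 hJX hJZ h𝔉 k.2 k.1.2 n _ ?_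
      rw [map_sub]
      have e1 := cW_res pX hpX pZ hpZ h𝔛 h𝔷 φ hsq hU h𝔉 i.2 i.1.2 k.2 k.1.2 h p H (m i n)
      rw [show cW pX hpX pZ hpZ h𝔛 h𝔷 φ hsq hU k.2 k.1.2 p H h𝔉
        (Groth.Agent.Ega1.QCohLoc.res (FF pX h𝔛 p 𝔉) (Scheme.Hom.preimage_mono g h) (m i n)) = _ from e1]
      have e2 := res_mem_KK pX pZ h𝔛 h𝔷 φ hsq i.2 k.2 h n _ (hm i n)
      rw [map_sub, res_res] at e2
      have e3 := Submodule.sub_mem _ (hm k n) e2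
      refine (congrArg (· ∈ KK pX pZ h𝔛 h𝔷 φ hsq k.2 𝔉 n) ?_).mp e3
      abel)
    (fun i n => by
      rw [IS_eq]
      refine mem_JF_of_cW pX hpX pZ hpZ h𝔛 h𝔷 φ hsq hU p H 𝓘 hJX hJZ h𝔉 i.2 i.1.2 n _ ?_
      rw [map_sub]
      have e3 := Submodule.sub_mem _ (hm i n) (hKK i n _ (hm i (n + 1)))
      refine (congrArg (· ∈ KK pX pZ h𝔛 h𝔷 φ hsq i.2 𝔉 n) ?_).mp e3
      abel)
  refine ⟨s, fun i => ?_⟩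
  rw [← sub_eq_zero]
  refine eq_zero_of_KK pX hpX pZ hpZ h𝔛 h𝔷 φ hsq hU 𝓘 hJX hJZ h𝔉 i.2 i.1.2 _ fun n => ?_
  have e1 := hs i n
  rw [IS_eq] at e1
  have e2 := cW_mem_KK pX hpX pZ hpZ h𝔛 h𝔷 φ hsq hU p H h𝔉 i.2 i.1.2 n _ e1
  rw [map_sub] at e2
  have e3 := Submodule.sub_mem _ e2 (hm i n)
  refine (congrArg (· ∈ KK pX pZ h𝔛 h𝔷 φ hsq i.2 𝔉 n) ?_).mp e3
  change _ = cW pX hpX pZ hpZ h𝔛 h𝔷 φ hsq hU i.2 i.1.2 p H h𝔉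
        (Groth.Agent.Ega1.QCohLoc.res (FF pX h𝔛 p 𝔉) (le_top : g ⁻¹ᵁ i.1.1 ≤ ⊤) s) - _
  abel

include hJX hJZ hpZ hsq H h𝔉 in
/-- The kernel and the cokernel of `𝔉(U^) → (φ^* 𝔉)(φ⁻¹ U^)` are killed by a power of the ideal generated by `G`. -/
theorem exists_kill_loc (G : Set (O (𝔛.Osh h𝔛.1) (pre (pX 0).base U)))
    (hG : ∀ b ∈ G, IsIso (p ∣_ (Spec (BU pX h𝔛 U)).basicOpen ((Scheme.ΓSpecIso (BU pX h𝔛 U)).inv.hom b))) :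
    ∃ N : ℕ, (∀ a ∈ Ideal.span G ^ N, ∀ m : Sec 𝔉 (pre (pX 0).base U),
        us (fAdj h𝔷 φ h𝔛) (pre (pX 0).base U) m = 0 → a • m = 0) ∧
      (∀ a ∈ Ideal.span G ^ N,
        ∀ y : Sec (GG h𝔛 h𝔷 φ 𝔉) (pre ((φ : FSch.Hom 𝔷 𝔛).app 0).base (pre (pX 0).base U)),
        ∃ m : Sec 𝔉 (pre (pX 0).base U), us (fAdj h𝔷 φ h𝔛) (pre (pX 0).base U) m =
          cm (fφ h𝔷 φ h𝔛) (pre (pX 0).base U) a • y) := by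
  have hUa : IsAffineOpen (𝔛.lvU h𝔛.1 0 (pre (pX 0).base U)) := isAffineOpen_pre h𝔛.1 pX hU
  have i2 := isNoetherianRing_O h𝔛 hUa
  have i3 : Module.Finite (O (𝔛.Osh h𝔛.1) (pre (pX 0).base U)) (Sec 𝔉 (pre (pX 0).base U)) := (main h𝔛 h𝔉 hUa).2.2
  have i4 : IsNoetherianRing (BU pX h𝔛 U) := i2
  have hL : Coh.IsCoh (tilde (MU pX h𝔛 𝔉 U)) := Groth.Agent.Ega1.ExtendAff2.isCoh_tilde _
  let inv := (Scheme.ΓSpecIso (BU pX h𝔛 U)).inv.hom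
  obtain ⟨N, h1, h2⟩ := AlgKill.exists_kill p hL (inv '' G) (by
    rintro _ ⟨b, hb, rfl⟩
    exact hG b hb)
  have hspan : ∀ a ∈ Ideal.span G ^ N, inv a ∈ Ideal.span (inv '' G) ^ N := fun a ha => by
    rw [← Ideal.map_span, ← Ideal.map_pow]
    exact Ideal.mem_map_of_mem _ ha
  refine ⟨N, fun a ha m hm => ?_, fun a ha y => ?_⟩
  · have h3 := mu_top_eq_zero pX hpX pZ hpZ h𝔛 h𝔷 φ hsq hU p H 𝓘 hJX hJZ h𝔉 m hm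
    have h4 := h1 (inv a) (hspan a ha) (jm (MU pX h𝔛 𝔉 U) m) h3
    have h5 : jm (MU pX h𝔛 𝔉 U) (a • m) = 0 := (jm_smul (MU pX h𝔛 𝔉 U) a m).trans h4
    exact (jm_bijective (MU pX h𝔛 𝔉 U)).1 (h5.trans (map_zero _).symm)
  · obtain ⟨s, hs⟩ := exists_glob pX hpX pZ hpZ h𝔛 h𝔷 φ hsq hU p H 𝓘 hJX hJZ h𝔉 y
    obtain ⟨m', hm'⟩ := h2 (inv a) (hspan a ha) s
    obtain ⟨m, rfl⟩ := (jm_bijective (MU pX h𝔛 𝔉 U)).2 m'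
    refine ⟨m, ?_⟩
    refine eq_of_forall_nhds _ _ _ fun x hx => ?_
    have hx' : f ((pZ 0) x) ∈ U := by
      have h1 : (pX 0) (((φ : FSch.Hom 𝔷 𝔛).app 0) x) = f ((pZ 0) x) := by
        rw [← Scheme.Hom.comp_apply, ← Scheme.Hom.comp_apply, hsq]
      rw [← h1]
      exact hx
    obtain ⟨W, hxW, hWU⟩ := exists_aff ((pZ 0) x) (f ⁻¹ᵁ U) hx'
    let i : Idx f U := ⟨W, hWU⟩
    refine ⟨pre (pZ 0).base W.1, hxW, pre_le pX pZ φ hsq hWU, ?_⟩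
    have e1 : res _ (pre_le pX pZ φ hsq hWU) (us (fAdj h𝔷 φ h𝔛) (pre (pX 0).base U) m) =
        cW pX hpX pZ hpZ h𝔛 h𝔷 φ hsq hU hWU W.2 p H h𝔉 (mu (MU pX h𝔛 𝔉 U) p (g ⁻¹ᵁ W.1) m) :=
      (cW_mu pX hpX pZ hpZ h𝔛 h𝔷 φ hsq hU h𝔉 hWU W.2 p H m).symm
    have e2 : mu (MU pX h𝔛 𝔉 U) p (g ⁻¹ᵁ W.1) m =
        (FF pX h𝔛 p 𝔉).presheaf.map (homOfLE (le_top : g ⁻¹ᵁ W.1 ≤ ⊤)).op (p.appTop (inv a) • s) := by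
      rw [← hm']
      exact (mu_res (MU pX h𝔛 𝔉 U) p (V := ⊤) le_top m).symm
    have e3 : P.presheaf.map (homOfLE (le_top : g ⁻¹ᵁ W.1 ≤ ⊤)).op (p.appTop (inv a)) = toB pX h𝔛 p (g ⁻¹ᵁ W.1) a := rfl
    rw [e1, e2, Groth.Agent.Fdesc.QCohStalk.map_smul', e3,
      (sbc_cW pX hpX pZ hpZ h𝔛 h𝔷 φ hsq hU h𝔉 hWU W.2 p H).smul, gam_toB, hs i, res_smul]
    rfl

end Glob

end K919.ZB
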