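import Groth.Agent.FCompl.K28.SBC
import Mathlib.Algebra.Category.Ring.Under.Basic
import Mathlib.RingTheory.Ideal.Quotient.Operations

/-!
# Ring maps that are isomorphisms modulo an ideal, and semilinear base change

`ModIso ρ J`: the ring map `ρ : A → B` induces a bijection `A/J → B/JB`.
* `ModIso.sbc_surj`, `ModIso.sbc_inj`: then `M/JM → Q/JQ` is bijective for every semilinear base change `M → Q`;
* `ModIso.of_comp`: cancellation;
* `ModIso.of_isPushout`: base change along `A → E`.
-/

set_option autoImplicit false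
set_option linter.style.haveILetI false

universe u

open CategoryTheory CategoryTheory.Limits
open K28 (SBC)

namespace K919.ModI

/-- `ρ` is an isomorphism modulo the ideal `J` and its extension. -/
structure ModIso {A B : Type u} [CommRing A] [CommRing B] (ρ : A →+* B) (J : Ideal A) : Prop where
  surj : ∀ b, ∃ a, b - ρ a ∈ J.map ρ
  inj : ∀ a, ρ a ∈ J.map ρ → a ∈ J

namespace ModIso

section Sbc

variable {A B : Type u} [CommRing A] [CommRing B] {ρ : A →+* B} {J : Ideal A}

/-- The inverse of the isomorphism modulo `J`. -/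
noncomputable def inv (h : ModIso ρ J) : B →+* A ⧸ J :=
  (RingEquiv.ofBijective (Ideal.quotientMap (J.map ρ) ρ Ideal.le_comap_map) (by
    constructor
    · rw [injective_iff_map_eq_zero]
      intro x hx
      obtain ⟨a, rfl⟩ := Ideal.Quotient.mk_surjective x
      rw [Ideal.quotientMap_mk, Ideal.Quotient.eq_zero_iff_mem] at hx
      exact Ideal.Quotient.eq_zero_iff_mem.2 (h.inj a hx)
    · intro y
      obtain ⟨b, rfl⟩ := Ideal.Quotient.mk_surjective y
      obtain ⟨a, ha⟩ := h.surj b
      refine ⟨Ideal.Quotient.mk J a, ?_⟩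
      rw [Ideal.quotientMap_mk]
      exact (Ideal.Quotient.eq.2 ha).symm)).symm.toRingHom.comp (Ideal.Quotient.mk (J.map ρ))

theorem inv_apply (h : ModIso ρ J) (a : A) : h.inv (ρ a) = Ideal.Quotient.mk J a := by
  unfold inv
  rw [RingHom.comp_apply]
  change (RingEquiv.symm _) _ = _
  rw [RingEquiv.symm_apply_eq, RingEquiv.ofBijective_apply, Ideal.quotientMap_mk]

theorem inv_mem (h : ModIso ρ J) (b : B) (hb : b ∈ J.map ρ) : h.inv b = 0 := by
  unfold inv
  rw [RingHom.comp_apply, Ideal.Quotient.eq_zero_iff_mem.2 hb, map_zero]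

variable {M Q : Type u} [AddCommGroup M] [Module A M] [AddCommGroup Q] [Module B Q] {g : M →+ Q}

theorem sbc_surj (h : ModIso ρ J) (hg : SBC ρ g) (q : Q) :
    ∃ m, q - g m ∈ (J.map ρ • ⊤ : Submodule B Q) := by
  induction q using hg.induction with
  | zero => exact ⟨0, by rw [map_zero, sub_zero]; exact Submodule.zero_mem _⟩
  | tmul m => exact ⟨m, by rw [sub_self]; exact Submodule.zero_mem _⟩
  | smul b q hq =>
    obtain ⟨m, hm⟩ := hq
    obtain ⟨a, ha⟩ := h.surj b
    refine ⟨a • m, ?_⟩
    have e : b • q - g (a • m) = b • (q - g m) + (b - ρ a) • g m := by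
      rw [hg.smul, smul_sub, sub_smul]
      abel
    rw [e]
    exact Submodule.add_mem _ (Submodule.smul_mem _ b hm) (Submodule.smul_mem_smul ha trivial)
  | add q q' hq hq' =>
    obtain ⟨m, hm⟩ := hq
    obtain ⟨m', hm'⟩ := hq'
    refine ⟨m + m', ?_⟩
    have e : q + q' - g (m + m') = (q - g m) + (q' - g m') := by
      rw [map_add]
      abel
    rw [e]
    exact Submodule.add_mem _ hm hm'

theorem sbc_inj (h : ModIso ρ J) (hg : SBC ρ g) (m : M)
    (hm : g m ∈ (J.map ρ • ⊤ : Submodule B Q)) : m ∈ (J • ⊤ : Submodule A M) := by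
  letI i1 : Module B (M ⧸ (J • ⊤ : Submodule A M)) := Module.compHom _ h.inv
  have hs : ∀ (b : B) (x : M ⧸ (J • ⊤ : Submodule A M)), b • x = h.inv b • x := fun _ _ => rfl
  obtain ⟨k', hk'⟩ := hg.lift (M ⧸ (J • ⊤ : Submodule A M)) (Submodule.mkQ (J • ⊤ : Submodule A M)).toAddMonoidHom
    (fun a m => by
      rw [hs, h.inv_apply]
      rfl)
  have h1 : ∀ q ∈ (J.map ρ • ⊤ : Submodule B Q), k' q = 0 := by
    intro q hq
    induction hq using Submodule.smul_induction_on' with
    | smul b hb x hx => rw [map_smul, hs, h.inv_mem b hb, zero_smul]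
    | add x hx y hy h1 h2 => rw [map_add, h1, h2, add_zero]
  have h2 := h1 _ hm
  rw [hk'] at h2
  exact (Submodule.Quotient.mk_eq_zero _).1 h2

end Sbc

theorem of_comp {A B C : Type u} [CommRing A] [CommRing B] [CommRing C] {σ : A →+* B} {τ : B →+* C} {J : Ideal A}
    (h1 : ModIso σ J) (h2 : ModIso (τ.comp σ) J) : ModIso τ (J.map σ) where
  surj c := by
    obtain ⟨a, ha⟩ := h2.surj c
    refine ⟨σ a, ?_⟩
    rw [Ideal.map_map]
    exact ha
  inj b hb := by
    obtain ⟨a, ha⟩ := h1.surj b
    rw [Ideal.map_map] at hb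
    have h3 : τ (b - σ a) ∈ J.map (τ.comp σ) := by
      rw [← Ideal.map_map]
      exact Ideal.mem_map_of_mem τ ha
    have h4 : (τ.comp σ) a ∈ J.map (τ.comp σ) := by
      have e : (τ.comp σ) a = τ b - τ (b - σ a) := by
        rw [map_sub, sub_sub_cancel]
        rfl
      rw [e]
      exact Ideal.sub_mem _ hb h3
    have h5 := Ideal.mem_map_of_mem σ (h2.inj a h4)
    have e : b = (b - σ a) + σ a := by ring
    rw [e]
    exact Ideal.add_mem _ ha h5

theorem of_isPushout {A E B C : CommRingCat.{u}} {f : A ⟶ E} {g : A ⟶ B} {inl : E ⟶ C} {inr : B ⟶ C}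
    (hp : IsPushout f g inl inr) {J : Ideal A} (h : ModIso g.hom J) : ModIso inl.hom (J.map f.hom) := by
  letI a1 : Algebra A E := f.hom.toAlgebra
  letI a2 : Algebra A B := g.hom.toAlgebra
  letI a3 : Algebra E C := inl.hom.toAlgebra
  letI a4 : Algebra B C := inr.hom.toAlgebra
  letI a5 : Algebra A C := (inl.hom.comp f.hom).toAlgebra
  have w : inl.hom.comp f.hom = inr.hom.comp g.hom := by
    have := hp.w
    exact congrArg CommRingCat.Hom.hom this
  haveI t1 : IsScalarTower A E C := IsScalarTower.of_algebraMap_eq' rfl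
  haveI t2 : IsScalarTower A B C := IsScalarTower.of_algebraMap_eq' w
  have hp' : Algebra.IsPushout A B E C := by
    have := CommRingCat.isPushout_iff_isPushout (R := A) (S := E) (R' := B) (S' := C)
    exact this.1 hp.flip
  have hb : SBC g.hom ((IsScalarTower.toAlgHom A E C).toLinearMap.toAddMonoidHom) :=
    SBC.of_isBaseChange hp'.out
  have e1 : ∀ c : C, c ∈ ((J.map f.hom).map inl.hom) ↔ c ∈ (J.map g.hom • ⊤ : Submodule B C) := by
    intro c
    rw [Ideal.smul_top_eq_map, Submodule.restrictScalars_mem, Ideal.map_map, w]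
    have e2 : (J.map g.hom).map (algebraMap B C) = J.map (inr.hom.comp g.hom) := Ideal.map_map _ _
    rw [e2]
  refine ⟨fun c => ?_, fun e he => ?_⟩
  · obtain ⟨m, hm⟩ := h.sbc_surj hb c
    exact ⟨m, (e1 _).2 hm⟩
  · have h3 := h.sbc_inj hb e ((e1 _).1 he)
    rw [Ideal.smul_top_eq_map, Submodule.restrictScalars_mem] at h3
    exact h3

/-- `ModIso` from levels. -/
theorem pow_of_levels {A B C : Type u} [CommRing A] [CommRing B] [CommRing C] {ρ : A →+* B} (σ : B →+* C)
    {J : Ideal A} (hσ : RingHom.ker σ = J.map ρ) (hs : Function.Surjective (σ.comp ρ))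
    (hk : RingHom.ker (σ.comp ρ) = J) : ModIso ρ J where
  surj b := by
    obtain ⟨a, ha⟩ := hs (σ b)
    refine ⟨a, ?_⟩
    rw [← hσ, RingHom.mem_ker, map_sub, sub_eq_zero]
    exact ha.symm
  inj a ha := by
    rw [← hσ] at ha
    rw [← hk]
    exact ha

end ModIso

end K919.ModI
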