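import Groth.Agent.FSch.K919.KillLoc
import Groth.Agent.S13637
import Groth.Agent.S3862
import Groth.Agent.FSch.K180.FTSmall
import Groth.Agent.FCompl.K28.CohRing
import Groth.Agent.FCompl.K29.FmlMor

/-!
# Kernel and cokernel of `𝔉 ⟶ f^_* f^^* 𝔉` are killed by a power of `𝓜` (`f` proper, an isomorphism off `V(𝓜)`)
-/

set_option autoImplicit false
set_option linter.style.haveILetI false
set_option linter.unusedSectionVars false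
universe u

open CategoryTheory TopologicalSpace Opposite CategoryTheory.Limits AlgebraicGeometry

noncomputable section

namespace K919.UnitKill

open K29.RSec K29.RStalk K29.RPull K29.RPres K29.Fml K29.Cmpl K29.FmlPull
open K919.ModI K919.ZB
open K28 (SBC)

/-- `f_*` of a coherent module is coherent, `f` proper. -/
theorem isCohF_push {𝔛 𝔜 : FSch.Sys.{u}} (h𝔛 : 𝔛.IsLocNoethFormal) (h𝔜 : 𝔜.IsLocNoethFormal)
    (f : 𝔛 ⟶ 𝔜) (hf : FSch.IsProperHom f) {𝔉 : FSch.ModF 𝔛 h𝔛.1} (h𝔉 : FSch.IsCohF 𝔛 h𝔛.1 𝔉) :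
    FSch.IsCohF 𝔜 h𝔜.1 ((FSch.homMor f h𝔛.1 h𝔜.1).push.obj 𝔉) := by
  have i1 : IsGrothendieckAbelian.{u} (FSch.ModF 𝔛 h𝔛.1) := K180.FTSmall.isGrothendieckAbelian _
  have i2 : EnoughInjectives (FSch.ModF 𝔛 h𝔛.1) := IsGrothendieckAbelian.enoughInjectives
  have i3 : HasInjectiveResolutions (FSch.ModF 𝔛 h𝔛.1) := inferInstance
  have h0 := Groth.Agent.S13637.result 𝔛 𝔜 h𝔛 h𝔜 f hf 𝔉 h𝔉 0
  have i4 : PreservesLimitsOfSize.{0, 0} (FSch.homMor f h𝔛.1 h𝔜.1).push :=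
    (FSch.homMor f h𝔛.1 h𝔜.1).adj.rightAdjoint_preservesLimits
  have i5 : PreservesFiniteLimits (FSch.homMor f h𝔛.1 h𝔜.1).push := inferInstance
  let e : (FSch.RpushF f h𝔛.1 h𝔜.1 0).obj 𝔉 ≅ (FSch.homMor f h𝔛.1 h𝔜.1).push.obj 𝔉 :=
    (Functor.rightDerivedZeroIsoSelf (FSch.homMor f h𝔛.1 h𝔜.1).push).app 𝔉
  exact (SheafOfModules.isFinitePresentation (R := ModSite.ringSh (𝔜.Osh h𝔜.1))).prop_of_iso e h0

section Extend

variable {𝔛 : FSch.Sys.{u}} {X : Scheme.{u}} (pX : ∀ n, 𝔛.X n ⟶ X) (hpX : ∀ n, 𝔛.ι n ≫ pX (n + 1) = pX n)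
  (h𝔛 : 𝔛.IsLocNoethFormal) [∀ n, IsClosedImmersion (pX n)]

theorem extend {U V : X.Opens} (hU : IsAffineOpen U) (hV : IsAffineOpen V) (hVU : V ≤ U) (I : Ideal Γ(X, U))
    {𝒦 Q : FSch.ModF 𝔛 h𝔛.1} (h𝒦 : FSch.IsCohF 𝔛 h𝔛.1 𝒦) (π : 𝒦 ⟶ Q)
    (h : ∀ s ∈ I, ∀ x : Sec 𝒦 (pre (pX 0).base U), app π _ (cm (sφ h𝔛.1 pX hpX) U s • x) = 0) :
    ∀ s ∈ I.map (X.presheaf.map (homOfLE hVU).op).hom, ∀ x : Sec 𝒦 (pre (pX 0).base V),
      app π _ (cm (sφ h𝔛.1 pX hpX) V s • x) = 0 := by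
  have hUa := isAffineOpen_pre h𝔛.1 pX hU
  have hVa := isAffineOpen_pre h𝔛.1 pX hV
  have hle : pre (pX 0).base V ≤ pre (pX 0).base U := pre_mono (pX 0).base hVU
  intro s hs x
  letI a1 : Algebra (O (𝔛.Osh h𝔛.1) (pre (pX 0).base U)) (O (𝔛.Osh h𝔛.1) (pre (pX 0).base V)) := (resO hle).toAlgebra
  letI a2 : Module (O (𝔛.Osh h𝔛.1) (pre (pX 0).base U)) (Sec 𝒦 (pre (pX 0).base V)) := Module.compHom _ (resO hle)
  haveI a3 := isScalarTower_res 𝒦 hle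
  induction x using (isBaseChange_res h𝔛 h𝒦 hUa hVa hle).inductionOn with
  | zero => rw [smul_zero, map_zero]
  | tmul m =>
    have e0 : resₗ 𝒦 hle m = res 𝒦 hle m := rfl
    rw [e0]
    induction hs using Submodule.span_induction with
    | mem y hy =>
      obtain ⟨s0, hs0, rfl⟩ := hy
      have e1 : cm (sφ h𝔛.1 pX hpX) V ((X.presheaf.map (homOfLE hVU).op).hom s0) =
          resO hle (cm (sφ h𝔛.1 pX hpX) U s0) := cm_resO (sφ h𝔛.1 pX hpX) hVU s0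
      rw [e1, ← res_smul, app_res, h s0 hs0 m, map_zero]
    | zero =>
      have e1 : cm (sφ h𝔛.1 pX hpX) V (0 : Γ(X, V)) = 0 := map_zero _
      rw [e1, zero_smul, map_zero]
    | add y z _ _ hy hz =>
      have e1 : cm (sφ h𝔛.1 pX hpX) V (y + z : Γ(X, V)) = cm (sφ h𝔛.1 pX hpX) V y + cm (sφ h𝔛.1 pX hpX) V z :=
        map_add _ _ _
      rw [e1, add_smul, map_add, hy, hz, add_zero]
    | smul a y _ hy =>
      have e1 : cm (sφ h𝔛.1 pX hpX) V (a • y : Γ(X, V)) = cm (sφ h𝔛.1 pX hpX) V a * cm (sφ h𝔛.1 pX hpX) V y :=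
        map_mul _ _ _
      rw [e1, mul_smul, map_smul, hy, smul_zero]
  | smul b q hq => rw [smul_comm, map_smul, hq, smul_zero]
  | add q q' hq hq' => rw [smul_add, map_add, hq, hq', add_zero]

end Extend

section Main

variable {X Z : Scheme.{u}} (f : Z ⟶ X) (𝓘 : X.IdealSheafData)
  (hpc : FSch.PowCompat f (𝓘.comap f) 𝓘) (h𝔛 : (FSch.completionAlong X 𝓘).IsLocNoethFormal)
  (h𝔷 : (FSch.completionAlong Z (𝓘.comap f)).IsLocNoethFormal)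
  (𝓜 : X.IdealSheafData) {𝔉 : FSch.ModF (FSch.completionAlong X 𝓘) h𝔛.1}

/-- The morphism of completions. -/
abbrev fh : FSch.completionAlong Z (𝓘.comap f) ⟶ FSch.completionAlong X 𝓘 := FSch.completionMap f (𝓘.comap f) 𝓘 hpc

/-- The unit `𝔉 ⟶ f^_* f^^* 𝔉`. -/
abbrev rho (𝔉 : FSch.ModF (FSch.completionAlong X 𝓘) h𝔛.1) :=
  (FSch.homMor (fh f 𝓘 hpc) h𝔷.1 h𝔛.1).adj.unit.app 𝔉

theorem isProperHom_fh [IsProper f] : FSch.IsProperHom (fh f 𝓘 hpc) := by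
  obtain ⟨h1, h2⟩ := Groth.Agent.S3862.result f 𝓘 hpc
  exact ⟨h2, MorphismProperty.of_isPullback (h1 0) inferInstance⟩

/-- The action of `Γ(X, U)`. -/
abbrev cX (U : X.Opens) : Γ(X, U) →+*
    O ((FSch.completionAlong X 𝓘).Osh h𝔛.1) (pre (FSch.completionToX X 𝓘 0).base U) :=
  cm (sφ h𝔛.1 (FSch.completionToX X 𝓘) (FSch.completionToX_comm X 𝓘)) U

theorem local_kill [IsLocallyNoetherian X] [IsLocallyNoetherian Z] [IsProper f]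
    (hM : IsIso (f ∣_ 𝓜.support.compl)) (h𝔉 : FSch.IsCohF (FSch.completionAlong X 𝓘) h𝔛.1 𝔉) (U : X.affineOpens) :
    ∃ N : ℕ, (∀ s ∈ (𝓜.ideal U) ^ N,
        ∀ x : Sec (kernel (rho f 𝓘 hpc h𝔛 h𝔷 𝔉)) (pre (FSch.completionToX X 𝓘 0).base U.1),
          cX 𝓘 h𝔛 U.1 s • x = 0) ∧
      (∀ s ∈ (𝓜.ideal U) ^ N,
        ∀ y : Sec ((FSch.homMor (fh f 𝓘 hpc) h𝔷.1 h𝔛.1).push.obj ((FSch.homMor (fh f 𝓘 hpc) h𝔷.1 h𝔛.1).pull.obj 𝔉))
          (pre (FSch.completionToX X 𝓘 0).base U.1),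
        app (cokernel.π (rho f 𝓘 hpc h𝔛 h𝔷 𝔉)) _ (cX 𝓘 h𝔛 U.1 s • y) = 0) := by
  have hJX : ∀ n, (FSch.completionToX X 𝓘 n).ker = 𝓘 ^ (n + 1) := fun n => Scheme.IdealSheafData.ker_subschemeι _
  have hJZ : ∀ n, (FSch.completionToX Z (𝓘.comap f) n).ker = (𝓘.comap f) ^ (n + 1) := fun n =>
    Scheme.IdealSheafData.ker_subschemeι _
  have i1 : ∀ n, IsClosedImmersion (FSch.completionToX X 𝓘 n) := fun n =>
    inferInstanceAs (IsClosedImmersion (𝓘 ^ (n + 1)).subschemeι)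
  have i2 : ∀ n, IsClosedImmersion (FSch.completionToX Z (𝓘.comap f) n) := fun n =>
    inferInstanceAs (IsClosedImmersion ((𝓘.comap f) ^ (n + 1)).subschemeι)
  have H := IsPullback.of_hasPullback f
    (bB (FSch.completionToX X 𝓘) (FSch.completionToX_comm X 𝓘) h𝔛 U.2)
  obtain ⟨N, h1, h2⟩ := exists_kill_loc (FSch.completionToX X 𝓘) (FSch.completionToX_comm X 𝓘)
    (FSch.completionToX Z (𝓘.comap f)) (FSch.completionToX_comm Z (𝓘.comap f)) h𝔛 h𝔷 (fh f 𝓘 hpc)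
    (FSch.completionMap_sq f (𝓘.comap f) 𝓘 hpc) U.2 _ H 𝓘 hJX hJZ h𝔉 (cX 𝓘 h𝔛 U.1 '' (𝓜.ideal U)) (by
      rintro _ ⟨k, hk, rfl⟩
      have h3 := Groth.Agent.FormalB.PpIso507.isIso_basicOpen H 𝓜 hM U
        (top_le_bB (FSch.completionToX X 𝓘) (FSch.completionToX_comm X 𝓘) h𝔛 U.2) k hk
      rw [appLE_bB] at h3
      exact h3)
  have hs : ∀ s ∈ (𝓜.ideal U) ^ N, cX 𝓘 h𝔛 U.1 s ∈ Ideal.span (cX 𝓘 h𝔛 U.1 '' (𝓜.ideal U)) ^ N := fun s hs => by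
    have h3 := Ideal.mem_map_of_mem (cX 𝓘 h𝔛 U.1) hs
    rw [Ideal.map_pow] at h3
    exact h3
  refine ⟨N, fun s hs' x => ?_, fun s hs' y => ?_⟩
  · apply (K29.RExact.mono_iff_app (kernel.ι (rho f 𝓘 hpc h𝔛 h𝔷 𝔉))).1 inferInstance
    rw [map_smul, map_zero]
    refine h1 _ (hs s hs') _ ?_
    have e1 : app (rho f 𝓘 hpc h𝔛 h𝔷 𝔉) _ (app (kernel.ι (rho f 𝓘 hpc h𝔛 h𝔷 𝔉))
        (pre (FSch.completionToX X 𝓘 0).base U.1) x) = 0 := by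
      rw [← app_comp, kernel.condition]
      rfl
    exact e1
  · obtain ⟨m, hm⟩ := h2 _ (hs s hs') (ofPush _ y)
    have e1 : app (rho f 𝓘 hpc h𝔛 h𝔷 𝔉) (pre (FSch.completionToX X 𝓘 0).base U.1) m = cX 𝓘 h𝔛 U.1 s • y := hm
    rw [← e1, ← app_comp, cokernel.condition]
    rfl

theorem main [IsNoetherian X] [IsLocallyNoetherian Z] [IsProper f]
    (hM : IsIso (f ∣_ 𝓜.support.compl)) (h𝔉 : FSch.IsCohF (FSch.completionAlong X 𝓘) h𝔛.1 𝔉) :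
    ∃ n : ℕ, 0 < n ∧ ∀ (U : X.affineOpens) (s : Γ(X, U.1)), s ∈ (𝓜 ^ n).ideal U →
      (∀ x : Sec (kernel (rho f 𝓘 hpc h𝔛 h𝔷 𝔉)) (pre (FSch.completionToX X 𝓘 0).base U.1),
          cX 𝓘 h𝔛 U.1 s • x = 0) ∧
      (∀ x : Sec (cokernel (rho f 𝓘 hpc h𝔛 h𝔷 𝔉)) (pre (FSch.completionToX X 𝓘 0).base U.1),
          cX 𝓘 h𝔛 U.1 s • x = 0) := by
  classical
  have i1 : ∀ n, IsClosedImmersion (FSch.completionToX X 𝓘 n) := fun n =>
    inferInstanceAs (IsClosedImmersion (𝓘 ^ (n + 1)).subschemeι)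
  choose N hN1 hN2 using local_kill f 𝓘 hpc h𝔛 h𝔷 𝓜 hM h𝔉
  have hcoh : FSch.IsCohF (FSch.completionAlong X 𝓘) h𝔛.1 ((FSch.homMor (fh f 𝓘 hpc) h𝔷.1 h𝔛.1).push.obj
      ((FSch.homMor (fh f 𝓘 hpc) h𝔷.1 h𝔛.1).pull.obj 𝔉)) :=
    isCohF_push h𝔷 h𝔛 (fh f 𝓘 hpc) (isProperHom_fh f 𝓘 hpc) (isCohF_pullF h𝔷 (fh f 𝓘 hpc) h𝔛 h𝔉)
  have hker : FSch.IsCohF (FSch.completionAlong X 𝓘) h𝔛.1 (kernel (rho f 𝓘 hpc h𝔛 h𝔷 𝔉)) :=
    K28.CohRing.isCohF_kernel h𝔛 _ h𝔉 hcoh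
  obtain ⟨t, ht⟩ := isCompact_univ.elim_finite_subcover (fun U : X.affineOpens => ((U.1 : X.Opens) : Set X))
    (fun U => U.1.isOpen) (fun x _ => by
      obtain ⟨W, hW, -⟩ := exists_aff x ⊤ trivial
      exact Set.mem_iUnion.2 ⟨W, hW⟩)
  refine ⟨t.sup N + 1, Nat.succ_pos _, fun U s hs => ?_⟩
  have hpow : ∀ U' ∈ t, (𝓜 ^ (t.sup N + 1)).ideal U' ≤ (𝓜.ideal U') ^ N U' := fun U' hU' => by
    rw [Scheme.IdealSheafData.ideal_pow, Pi.pow_apply]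
    exact Ideal.pow_le_pow_right ((Finset.le_sup (f := N) hU').trans (Nat.le_succ _))
  have hcov : ∀ z : X, ∃ U' ∈ t, z ∈ U'.1 := fun z => by
    obtain ⟨U', hU', hz⟩ := Set.mem_iUnion₂.1 (ht (Set.mem_univ z))
    exact ⟨U', hU', hz⟩
  have hres : ∀ (V : X.affineOpens) (hVU : V.1 ≤ U.1),
      X.presheaf.map (homOfLE hVU).op s ∈ (𝓜 ^ (t.sup N + 1)).ideal V := fun V hVU => by
    rw [← (𝓜 ^ (t.sup N + 1)).map_ideal (U := V) (V := U) hVU]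
    exact Ideal.mem_map_of_mem _ hs
  have hcm : ∀ (V : X.affineOpens) (hVU : V.1 ≤ U.1), cX 𝓘 h𝔛 V.1 (X.presheaf.map (homOfLE hVU).op s) =
      resO (pre_mono (FSch.completionToX X 𝓘 0).base hVU) (cX 𝓘 h𝔛 U.1 s) := fun V hVU =>
    cm_resO (sφ h𝔛.1 (FSch.completionToX X 𝓘) (FSch.completionToX_comm X 𝓘)) hVU s
  refine ⟨fun x => ?_, fun x => ?_⟩
  · refine eq_of_forall_nhds _ _ _ fun y hy => ?_
    obtain ⟨U', hU't, hyU'⟩ := hcov ((FSch.completionToX X 𝓘 0) y)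
    obtain ⟨V, hyV, hVle⟩ := exists_aff ((FSch.completionToX X 𝓘 0) y) (U.1 ⊓ U'.1) ⟨hy, hyU'⟩
    refine ⟨pre (FSch.completionToX X 𝓘 0).base V.1, hyV,
      pre_mono (FSch.completionToX X 𝓘 0).base (hVle.trans inf_le_left), ?_⟩
    have h1 := extend (FSch.completionToX X 𝓘) (FSch.completionToX_comm X 𝓘) h𝔛 U'.2 V.2 (hVle.trans inf_le_right)
      ((𝓜 ^ (t.sup N + 1)).ideal U') hker (𝟙 _) (fun s' hs' x' => by
        rw [app_id]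
        exact hN1 U' s' (hpow U' hU't hs') x')
      (X.presheaf.map (homOfLE (hVle.trans inf_le_left)).op s) (by
        exact (congrArg (fun J : Ideal Γ(X, V.1) => X.presheaf.map (homOfLE (hVle.trans inf_le_left)).op s ∈ J)
          ((𝓜 ^ (t.sup N + 1)).map_ideal (U := V) (V := U') (hVle.trans inf_le_right))).mpr (hres V _)) (res _ (pre_mono (FSch.completionToX X 𝓘 0).base (hVle.trans inf_le_left)) x)
    rw [app_id] at h1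
    rw [res_smul, map_zero, ← hcm V]
    exact h1
  · refine eq_of_forall_nhds _ _ _ fun y hy => ?_
    obtain ⟨W, hyW, hWle, z, hz⟩ := (K29.RExact.epi_iff_local (cokernel.π (rho f 𝓘 hpc h𝔛 h𝔷 𝔉))).1 inferInstance
      _ x y hy
    obtain ⟨U', hU't, hyU'⟩ := hcov ((FSch.completionToX X 𝓘 0) y)
    obtain ⟨V0, hyV, hVle, hVW, hV⟩ := K29.Cmpl.exists_affine (FSch.completionToX X 𝓘) y (U.1 ⊓ U'.1) W
      ⟨hy, hyU'⟩ hyW
    let V : X.affineOpens := ⟨V0, hV⟩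
    refine ⟨pre (FSch.completionToX X 𝓘 0).base V.1, hyV,
      pre_mono (FSch.completionToX X 𝓘 0).base (hVle.trans inf_le_left), ?_⟩
    have h1 := extend (FSch.completionToX X 𝓘) (FSch.completionToX_comm X 𝓘) h𝔛 U'.2 V.2 (hVle.trans inf_le_right)
      ((𝓜 ^ (t.sup N + 1)).ideal U') hcoh (cokernel.π (rho f 𝓘 hpc h𝔛 h𝔷 𝔉)) (fun s' hs' x' =>
        hN2 U' s' (hpow U' hU't hs') x')
      (X.presheaf.map (homOfLE (hVle.trans inf_le_left)).op s) (by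
        exact (congrArg (fun J : Ideal Γ(X, V.1) => X.presheaf.map (homOfLE (hVle.trans inf_le_left)).op s ∈ J)
          ((𝓜 ^ (t.sup N + 1)).map_ideal (U := V) (V := U') (hVle.trans inf_le_right))).mpr (hres V _)) (res _ hVW z)
    rw [map_smul, app_res, hz, res_res] at h1
    rw [res_smul, map_zero, ← hcm V]
    exact h1

end Main

end K919.UnitKill
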