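import Groth.Agent.FSch.K919.ZBRing
import Groth.Agent.FCompl.K28.LevelBC
import Groth.Agent.Ega1.ExtendAff2

/-!
# The base change of `f : Z ⟶ X` to the completed ring `B = O_𝔛(V^)` of an affine open: modules

`M = 𝔉(U^)`, `F = p^* M~` on `P = Z ×_X Spec B`; `cW : Γ(F, g⁻¹ W) → (φ^* 𝔉)(W^)` is a semilinear base change along
`gam`, natural in `W`.
-/

set_option autoImplicit false
set_option linter.style.haveILetI false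
set_option linter.unusedSectionVars false
universe u

open CategoryTheory TopologicalSpace Opposite CategoryTheory.Limits AlgebraicGeometry

noncomputable section

namespace K919.ZB

open K29.RSec K29.RStalk K29.RPull K29.RPres K29.Fml K29.Cmpl K29.FmlPull
open K919.ModI
open K28 (SBC)
open Groth.Agent.VarietyB

/-! ### Sections of `M~` -/

section Tilde

variable {R : CommRingCat.{u}} (M : ModuleCat.{u} R)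

/-- `M → Γ(M~, ⊤)`. -/
def jm : M →+ Γ(tilde M, (⊤ : (Spec R).Opens)) where
  toFun := (tilde.toOpen M ⊤).hom
  map_zero' := map_zero (tilde.toOpen M ⊤).hom
  map_add' := map_add (tilde.toOpen M ⊤).hom

theorem jm_smul (r : R) (m : M) : jm M (r • m) = (Scheme.ΓSpecIso R).inv.hom r • jm M m := by
  have h1 : jm M (r • m) = r • jm M m := (tilde.toOpen M ⊤).hom.map_smul r m
  rw [h1, Scheme.Modules.smul_Spec_def]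
  congr 1

theorem jm_bijective : Function.Bijective (jm M) := by
  have := (ConcreteCategory.isIso_iff_bijective (tilde.toOpen M ⊤)).1 inferInstance
  exact this

theorem sbc_jm : SBC (Scheme.ΓSpecIso R).inv.hom (jm M) := by
  refine SBC.of_surjective (jm_smul M) ?_ (jm_bijective M).2 fun m hm => ?_
  · exact ((ConcreteCategory.isIso_iff_bijective (Scheme.ΓSpecIso R).inv).1 inferInstance).2
  · have : m = 0 := (jm_bijective M).1 (hm.trans (map_zero _).symm)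
    rw [this]
    exact Submodule.zero_mem _

variable {P : Scheme.{u}} (p : P ⟶ Spec R)

/-- `M → Γ(p^* M~, V)`. -/
def mu (V : P.Opens) : M →+ Γ((Scheme.Modules.pullback p).obj (tilde M), V) :=
  (PullSec.sec p (tilde M) (U := ⊤) (V := V) le_top).comp (jm M)

theorem mu_smul (V : P.Opens) (r : R) (m : M) :
    mu M p V (r • m) = (p.appLE ⊤ V le_top).hom ((Scheme.ΓSpecIso R).inv.hom r) • mu M p V m := by
  change PullSec.sec p (tilde M) (U := ⊤) (V := V) le_top (jm M (r • m)) = _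
  rw [jm_smul]
  exact PullSec.sec_smul p (tilde M) (U := ⊤) (V := V) le_top _ _

theorem mu_res {V V' : P.Opens} (h : V' ≤ V) (m : M) :
    ((Scheme.Modules.pullback p).obj (tilde M)).presheaf.map (homOfLE h).op (mu M p V m) = mu M p V' m := by
  refine (PullSec.sec_res p (tilde M) (U := ⊤) (V := V) le_top (U' := ⊤) (V' := V') le_top le_rfl h (jm M m)).trans ?_
  refine congrArg (PullSec.sec p (tilde M) (U := ⊤) (V := V') le_top) ?_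
  exact congr($((tilde M).presheaf.map_id (op ⊤)) (jm M m))

theorem sbc_mu {V : P.Opens} (hV : IsAffineOpen V) :
    SBC ((p.appLE ⊤ V le_top).hom.comp (Scheme.ΓSpecIso R).inv.hom) (mu M p V) :=
  (sbc_jm M).comp (K28.LevelBC.sbc_sec p (M := tilde M) (inferInstance : (tilde M).IsQuasicoherent)
    (U := ⊤) (V := V) le_top (isAffineOpen_top _) hV)

end Tilde

section Mod

variable {𝔛 𝔷 : FSch.Sys.{u}} {X Z : Scheme.{u}} {f : Z ⟶ X}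
  (pX : ∀ n, 𝔛.X n ⟶ X) (hpX : ∀ n, 𝔛.ι n ≫ pX (n + 1) = pX n)
  (pZ : ∀ n, 𝔷.X n ⟶ Z) (hpZ : ∀ n, 𝔷.ι n ≫ pZ (n + 1) = pZ n)
  (h𝔛 : 𝔛.IsLocNoethFormal) (h𝔷 : 𝔷.IsLocNoethFormal) (φ : 𝔷 ⟶ 𝔛)
  (hsq : ∀ n, pZ n ≫ f = (φ : FSch.Hom 𝔷 𝔛).app n ≫ pX n)
  {U : X.Opens} (hU : IsAffineOpen U)

section Nat

variable {W W' : Z.Opens} (hWU : W ≤ f ⁻¹ᵁ U) (hW : IsAffineOpen W)
  (hWU' : W' ≤ f ⁻¹ᵁ U) (hW' : IsAffineOpen W') (hle : W' ≤ W)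
  {P : Scheme.{u}} {g : P ⟶ Z} (p : P ⟶ Spec (BU pX h𝔛 U)) (H : IsPullback g p f (bB pX hpX h𝔛 hU))

theorem gam_res (c : Γ(P, g ⁻¹ᵁ W)) :
    gam pX hpX pZ hpZ h𝔛 h𝔷 φ hsq hU hWU' hW' p H (P.presheaf.map (homOfLE (Scheme.Hom.preimage_mono g hle)).op c) =
      resO (pre_mono (pZ 0).base hle) (gam pX hpX pZ hpZ h𝔛 h𝔷 φ hsq hU hWU hW p H c) := by
  have key : P.presheaf.map (homOfLE (Scheme.Hom.preimage_mono g hle)).op ≫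
      CommRingCat.ofHom (gam pX hpX pZ hpZ h𝔛 h𝔷 φ hsq hU hWU' hW' p H) =
      CommRingCat.ofHom (gam pX hpX pZ hpZ h𝔛 h𝔷 φ hsq hU hWU hW p H) ≫
        CommRingCat.ofHom (resO (R := 𝔷.Osh h𝔷.1) (pre_mono (pZ 0).base hle)) := by
    apply (isPushout_W pX hpX h𝔛 hU hWU hW p H).hom_ext
    · ext x
      have e1 : P.presheaf.map (homOfLE (Scheme.Hom.preimage_mono g hle)).op (g.appLE W (g ⁻¹ᵁ W) le_rfl x) =
          g.appLE W' (g ⁻¹ᵁ W') le_rfl (Z.presheaf.map (homOfLE hle).op x) := by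
        rw [← CommRingCat.comp_apply, ← CommRingCat.comp_apply, Scheme.Hom.appLE_map, Scheme.Hom.map_appLE]
      change gam pX hpX pZ hpZ h𝔛 h𝔷 φ hsq hU hWU' hW' p H
          (P.presheaf.map (homOfLE (Scheme.Hom.preimage_mono g hle)).op (g.appLE W (g ⁻¹ᵁ W) le_rfl x)) =
        resO (R := 𝔷.Osh h𝔷.1) (pre_mono (pZ 0).base hle)
          (gam pX hpX pZ hpZ h𝔛 h𝔷 φ hsq hU hWU hW p H (g.appLE W (g ⁻¹ᵁ W) le_rfl x))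
      rw [e1, gam_appLE, gam_appLE]
      exact cm_resO (sφ h𝔷.1 pZ hpZ) hle x
    · have h2 : ∀ b : O (𝔛.Osh h𝔛.1) (pre (pX 0).base U),
          gam pX hpX pZ hpZ h𝔛 h𝔷 φ hsq hU hWU' hW' p H
            (P.presheaf.map (homOfLE (Scheme.Hom.preimage_mono g hle)).op (toB pX h𝔛 p (g ⁻¹ᵁ W) b)) =
          resO (R := 𝔷.Osh h𝔷.1) (pre_mono (pZ 0).base hle)
            (gam pX hpX pZ hpZ h𝔛 h𝔷 φ hsq hU hWU hW p H (toB pX h𝔛 p (g ⁻¹ᵁ W) b)) := by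
        intro b
        rw [toB_res, gam_toB, gam_toB]
        exact (resO_resO _ _ _).symm
      ext x
      have h3 := h2 ((Scheme.ΓSpecIso (BU pX h𝔛 U)).hom x)
      have h4 : toB pX h𝔛 p (g ⁻¹ᵁ W) ((Scheme.ΓSpecIso (BU pX h𝔛 U)).hom x) = p.appLE ⊤ (g ⁻¹ᵁ W) le_top x := by
        exact congrArg (fun t => p.appLE ⊤ (g ⁻¹ᵁ W) le_top t) (congr($((Scheme.ΓSpecIso (BU pX h𝔛 U)).hom_inv_id) x))
      rw [h4] at h3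
      exact h3
  exact congr($key c)

end Nat

variable {𝔉 : FSch.ModF 𝔛 h𝔛.1} (h𝔉 : FSch.IsCohF 𝔛 h𝔛.1 𝔉)

/-- `M = 𝔉(U^)`. -/
abbrev MU (𝔉 : FSch.ModF 𝔛 h𝔛.1) (U : X.Opens) : ModuleCat.{u} (BU pX h𝔛 U) :=
  ModuleCat.of (BU pX h𝔛 U) (Sec 𝔉 (pre (pX 0).base U))

variable {W W' : Z.Opens} (hWU : W ≤ f ⁻¹ᵁ U) (hW : IsAffineOpen W)
  (hWU' : W' ≤ f ⁻¹ᵁ U) (hW' : IsAffineOpen W') (hle : W' ≤ W)
  {P : Scheme.{u}} {g : P ⟶ Z} (p : P ⟶ Spec (BU pX h𝔛 U)) (H : IsPullback g p f (bB pX hpX h𝔛 hU))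
  [∀ n, IsClosedImmersion (pX n)] [∀ n, IsClosedImmersion (pZ n)]

/-- `𝔉(U^) → (φ^* 𝔉)(W^)`. -/
def ups (𝔉 : FSch.ModF 𝔛 h𝔛.1) : Sec 𝔉 (pre (pX 0).base U) →+
    Sec ((FSch.pullF φ h𝔷.1 h𝔛.1).obj 𝔉) (pre (pZ 0).base W) :=
  (res ((FSch.pullF φ h𝔷.1 h𝔛.1).obj 𝔉) (pre_le pX pZ φ hsq hWU)).comp (us (fAdj h𝔷 φ h𝔛) (pre (pX 0).base U))

include hU hW in
theorem sbc_ups (h𝔉 : FSch.IsCohF 𝔛 h𝔛.1 𝔉) :
    SBC (bb pX pZ h𝔛 h𝔷 φ hsq hWU) (ups pX pZ h𝔛 h𝔷 φ hsq hWU 𝔉) :=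
  sbc_pullF h𝔷 φ h𝔛 h𝔉 (isAffineOpen_pre h𝔛.1 pX hU) (isAffineOpen_pre h𝔷.1 pZ hW) (pre_le pX pZ φ hsq hWU)

theorem sbc_mu' (𝔉 : FSch.ModF 𝔛 h𝔛.1) {V : P.Opens} (hV : IsAffineOpen V) :
    SBC (toB pX h𝔛 p V) (mu (MU pX h𝔛 𝔉 U) p V) := sbc_mu (MU pX h𝔛 𝔉 U) p hV

include H hU hWU in
theorem isAffineOpen_g (hW : IsAffineOpen W) : IsAffineOpen (g ⁻¹ᵁ W) := by
  have hUY : g ⁻¹ᵁ W = g ⁻¹ᵁ W ⊓ p ⁻¹ᵁ (⊤ : (Spec (BU pX h𝔛 U)).Opens) := (inf_top_eq _).symm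
  have h1 : IsAffine U.toScheme := hU
  have h2 : IsAffine W.toScheme := hW
  have h3 : IsAffine ((⊤ : (Spec (BU pX h𝔛 U)).Opens) : Scheme.{u}) := isAffineOpen_top _
  exact .of_isIso (Scheme.Hom.isPullback_resLE H (top_le_bB pX hpX h𝔛 hU) hWU hUY).isoPullback.hom

theorem exists_cW (h𝔉 : FSch.IsCohF 𝔛 h𝔛.1 𝔉) :
    ∃ c : Γ((Scheme.Modules.pullback p).obj (tilde (MU pX h𝔛 𝔉 U)), g ⁻¹ᵁ W) →+
      Sec ((FSch.pullF φ h𝔷.1 h𝔛.1).obj 𝔉) (pre (pZ 0).base W),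
    (∀ m, c (mu (MU pX h𝔛 𝔉 U) p (g ⁻¹ᵁ W) m) = ups pX pZ h𝔛 h𝔷 φ hsq hWU 𝔉 m) ∧
      SBC (gam pX hpX pZ hpZ h𝔛 h𝔷 φ hsq hU hWU hW p H) c := by
  letI i1 : Module Γ(P, g ⁻¹ᵁ W) (Sec ((FSch.pullF φ h𝔷.1 h𝔛.1).obj 𝔉) (pre (pZ 0).base W)) :=
    Module.compHom _ (gam pX hpX pZ hpZ h𝔛 h𝔷 φ hsq hU hWU hW p H)
  have hs : ∀ (b : Γ(P, g ⁻¹ᵁ W)) (x : Sec ((FSch.pullF φ h𝔷.1 h𝔛.1).obj 𝔉) (pre (pZ 0).base W)),
      b • x = gam pX hpX pZ hpZ h𝔛 h𝔷 φ hsq hU hWU hW p H b • x := fun _ _ => rfl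
  have h1 := sbc_mu' pX h𝔛 p 𝔉 (isAffineOpen_g pX hpX h𝔛 hU hWU p H hW)
  have h2 := sbc_ups pX pZ h𝔛 h𝔷 φ hsq hU hWU hW h𝔉
  obtain ⟨k, hk⟩ := h1.lift _ (ups pX pZ h𝔛 h𝔷 φ hsq hWU 𝔉) (fun a m => by
    rw [hs, gam_toB]
    exact h2.smul a m)
  refine ⟨k.toAddMonoidHom, hk, h1.of_comp (fun b q => k.map_smul b q) ?_⟩
  have e1 : (gam pX hpX pZ hpZ h𝔛 h𝔷 φ hsq hU hWU hW p H).comp (toB pX h𝔛 p (g ⁻¹ᵁ W)) =
      bb pX pZ h𝔛 h𝔷 φ hsq hWU := RingHom.ext fun b => gam_toB pX hpX pZ hpZ h𝔛 h𝔷 φ hsq hU hWU hW p H b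
  have e2 : k.toAddMonoidHom.comp (mu (MU pX h𝔛 𝔉 U) p (g ⁻¹ᵁ W)) = ups pX pZ h𝔛 h𝔷 φ hsq hWU 𝔉 :=
    AddMonoidHom.ext hk
  rw [e1, e2]
  exact h2

/-- `Γ(F, g⁻¹ W) → (φ^* 𝔉)(W^)`. -/
def cW (h𝔉 : FSch.IsCohF 𝔛 h𝔛.1 𝔉) : Γ((Scheme.Modules.pullback p).obj (tilde (MU pX h𝔛 𝔉 U)), g ⁻¹ᵁ W) →+
      Sec ((FSch.pullF φ h𝔷.1 h𝔛.1).obj 𝔉) (pre (pZ 0).base W) :=
  (exists_cW pX hpX pZ hpZ h𝔛 h𝔷 φ hsq hU hWU hW p H h𝔉).choose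

theorem cW_mu (m : Sec 𝔉 (pre (pX 0).base U)) :
    cW pX hpX pZ hpZ h𝔛 h𝔷 φ hsq hU hWU hW p H h𝔉 (mu (MU pX h𝔛 𝔉 U) p (g ⁻¹ᵁ W) m) =
      ups pX pZ h𝔛 h𝔷 φ hsq hWU 𝔉 m :=
  (exists_cW pX hpX pZ hpZ h𝔛 h𝔷 φ hsq hU hWU hW p H h𝔉).choose_spec.1 m

theorem sbc_cW : SBC (gam pX hpX pZ hpZ h𝔛 h𝔷 φ hsq hU hWU hW p H)
    (cW pX hpX pZ hpZ h𝔛 h𝔷 φ hsq hU hWU hW p H h𝔉) :=
  (exists_cW pX hpX pZ hpZ h𝔛 h𝔷 φ hsq hU hWU hW p H h𝔉).choose_spec.2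

theorem cW_res (s : Γ((Scheme.Modules.pullback p).obj (tilde (MU pX h𝔛 𝔉 U)), g ⁻¹ᵁ W)) :
    cW pX hpX pZ hpZ h𝔛 h𝔷 φ hsq hU hWU' hW' p H h𝔉
      (((Scheme.Modules.pullback p).obj (tilde (MU pX h𝔛 𝔉 U))).presheaf.map
        (homOfLE (Scheme.Hom.preimage_mono g hle)).op s) =
      res _ (pre_mono (pZ 0).base hle) (cW pX hpX pZ hpZ h𝔛 h𝔷 φ hsq hU hWU hW p H h𝔉 s) := by
  have h1 := sbc_mu' pX h𝔛 p 𝔉 (isAffineOpen_g pX hpX h𝔛 hU hWU p H hW)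
  induction s using h1.induction with
  | zero => rw [map_zero, map_zero, map_zero, map_zero]
  | tmul m =>
    rw [mu_res, cW_mu, cW_mu]
    exact (res_res _ _ _ _).symm
  | smul b q hq =>
    rw [Groth.Agent.Fdesc.QCohStalk.map_smul', (sbc_cW pX hpX pZ hpZ h𝔛 h𝔷 φ hsq hU h𝔉 hWU' hW' p H).smul, hq,
      (sbc_cW pX hpX pZ hpZ h𝔛 h𝔷 φ hsq hU h𝔉 hWU hW p H).smul, res_smul,
      gam_res pX hpX pZ hpZ h𝔛 h𝔷 φ hsq hU hWU hW hWU' hW' hle p H]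
  | add q q' hq hq' => rw [map_add, map_add, map_add, map_add, hq, hq']

end Mod

end K919.ZB
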