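import Groth.Agent.FSch.K919.ModIso
import Groth.Agent.FCompl.K29.Cmpl
import Groth.Agent.FCompl.K29.PullSys
import Groth.Agent.Divis.IdealComap
import Mathlib.AlgebraicGeometry.Morphisms.Flat

/-!
# The base change of `f : Z ⟶ X` to the completed ring `B = O_𝔛(V^)` of an affine open: rings

`𝔛`, `𝔷` completions of `X`, `Z` (data as in `K29.Cmpl`), `φ : 𝔷 ⟶ 𝔛` over `f : Z ⟶ X`; `U ⊆ X` affine, `B = O_𝔛(U^)`,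
`bB : Spec B ⟶ X`, `H : IsPullback g p f bB`, `W ⊆ Z` affine with `W ≤ f⁻¹ U`:
the ring map `gam : Γ(Z_B, g⁻¹ W) → O_𝔷(W^)` is an isomorphism modulo the powers of the ideal of definition.
-/

set_option autoImplicit false
set_option linter.style.haveILetI false
set_option linter.unusedSectionVars false
universe u

open CategoryTheory TopologicalSpace Opposite CategoryTheory.Limits AlgebraicGeometry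

noncomputable section

namespace K919.ZB

open K29.RSec K29.RStalk K29.RPull K29.RPres K29.Fml K29.Cmpl K29.FmlPull
open K919.ModI
open K28 (SBC)

section Cmpl

variable {𝔛 : FSch.Sys.{u}} {Y : Scheme.{u}} (p : ∀ n, 𝔛.X n ⟶ Y) (hp : ∀ n, 𝔛.ι n ≫ p (n + 1) = p n)
  (h𝔛 : 𝔛.IsLocNoethFormal) [IsLocallyNoetherian Y] [∀ n, IsClosedImmersion (p n)] (J : Y.IdealSheafData)
  (hJ : ∀ n, (p n).ker = J ^ (n + 1)) {U : Y.Opens} (hU : IsAffineOpen U)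

include hJ in
/-- `Γ(Y, U) → O_𝔛(U^)` is an isomorphism modulo `J ^ (n + 1)`. -/
theorem modIso_cm (n : ℕ) : ModIso (cm (sφ h𝔛.1 p hp) U) (JJ J hU ^ (n + 1)) := by
  refine ModIso.pow_of_levels (prO h𝔛.1 n (pre (p 0).base U)) ?_ ?_ ?_
  · rw [Ideal.map_pow, map_JJ p hp h𝔛 J hJ hU]
    ext x
    exact (mem_II_pow h𝔛 (isAffineOpen_pre h𝔛.1 p hU) n x).symm
  · intro z
    obtain ⟨a, ha⟩ := appLE_surjective p hp h𝔛.1 hU n z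
    exact ⟨a, (prO_cm h𝔛.1 p hp n U a).trans ha⟩
  · ext a
    exact (mem_JJ_pow p hp h𝔛 J hJ hU n a).symm

end Cmpl

section Sq

variable {𝔛 𝔷 : FSch.Sys.{u}} {X Z : Scheme.{u}} {f : Z ⟶ X}
  (pX : ∀ n, 𝔛.X n ⟶ X) (hpX : ∀ n, 𝔛.ι n ≫ pX (n + 1) = pX n)
  (pZ : ∀ n, 𝔷.X n ⟶ Z) (hpZ : ∀ n, 𝔷.ι n ≫ pZ (n + 1) = pZ n)
  (h𝔛 : 𝔛.IsLocNoethFormal) (h𝔷 : 𝔷.IsLocNoethFormal) (φ : 𝔷 ⟶ 𝔛)
  (hsq : ∀ n, pZ n ≫ f = (φ : FSch.Hom 𝔷 𝔛).app n ≫ pX n)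
  {U : X.Opens} {W : Z.Opens} (hWU : W ≤ f ⁻¹ᵁ U)

include hsq hWU in
theorem pre_le : pre (pZ 0).base W ≤ pre ((φ : FSch.Hom 𝔷 𝔛).app 0).base (pre (pX 0).base U) := by
  intro x hx
  have h1 : (pX 0) (((φ : FSch.Hom 𝔷 𝔛).app 0) x) = f ((pZ 0) x) := by
    rw [← Scheme.Hom.comp_apply, ← Scheme.Hom.comp_apply, hsq]
  change (pX 0) (((φ : FSch.Hom 𝔷 𝔛).app 0) x) ∈ U
  rw [h1]
  exact hWU hx

/-- `O_𝔛(U^) → O_𝔷(W^)`. -/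
def bb : O (𝔛.Osh h𝔛.1) (pre (pX 0).base U) →+* O (𝔷.Osh h𝔷.1) (pre (pZ 0).base W) :=
  (resO (R := 𝔷.Osh h𝔷.1) (pre_le pX pZ φ hsq hWU)).comp (cm (fφ h𝔷 φ h𝔛) (pre (pX 0).base U))

theorem bb_cm (a : O X.sheaf U) : bb pX pZ h𝔛 h𝔷 φ hsq hWU (cm (sφ h𝔛.1 pX hpX) U a) =
    cm (sφ h𝔷.1 pZ hpZ) W ((f.appLE U W hWU).hom a) := by
  refine K28.RealSec.pk_ext 𝔷 h𝔷.1 _ _ fun n => ?_
  have e1 : prO h𝔷.1 n (pre (pZ 0).base W) (bb pX pZ h𝔛 h𝔷 φ hsq hWU (cm (sφ h𝔛.1 pX hpX) U a)) =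
      resO (R := (𝔷.X n).sheaf) (lvU_mono h𝔷.1 n (pre_le pX pZ φ hsq hWU))
        (prO h𝔷.1 n _ (cm (fφ h𝔷 φ h𝔛) (pre (pX 0).base U) (cm (sφ h𝔛.1 pX hpX) U a))) :=
    prO_res h𝔷.1 n _ _
  have e2 := K29.PullSys.pk_cm φ h𝔷.1 h𝔛.1 n (pre (pX 0).base U) (cm (sφ h𝔛.1 pX hpX) U a)
  have e3 := prO_cm h𝔛.1 pX hpX n U a
  have e4 := prO_cm h𝔷.1 pZ hpZ n W ((f.appLE U W hWU).hom a)
  refine (show K28.RealSec.pk 𝔷 h𝔷.1 n (pre (pZ 0).base W) (bb pX pZ h𝔛 h𝔷 φ hsq hWU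
    (cm (sφ h𝔛.1 pX hpX) U a)) = _ from e1).trans ?_
  refine Eq.trans ?_ e4.symm
  rw [show prO h𝔷.1 n (pre ((φ : FSch.Hom 𝔷 𝔛).app 0).base (pre (pX 0).base U))
    (cm (fφ h𝔷 φ h𝔛) (pre (pX 0).base U) (cm (sφ h𝔛.1 pX hpX) U a)) = _ from e2]
  rw [show K28.RealSec.pk 𝔛 h𝔛.1 n (pre (pX 0).base U) (cm (sφ h𝔛.1 pX hpX) U a) = _ from e3]
  change ((𝔷.X n).presheaf.map _) (((φ : FSch.Hom 𝔷 𝔛).app n).appLE _ _ _ ((pX n).appLE _ _ _ a)) =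
    (pZ n).appLE _ _ _ (f.appLE U W hWU a)
  rw [← CommRingCat.comp_apply, ← CommRingCat.comp_apply, ← CommRingCat.comp_apply,
    Scheme.Hom.appLE_map, Scheme.Hom.appLE_comp_appLE, Scheme.Hom.appLE_comp_appLE]
  have : ∀ (x y : 𝔷.X n ⟶ X) (hxy : x = y) (V : (𝔷.X n).Opens) (hx : V ≤ x ⁻¹ᵁ U) (hy : V ≤ y ⁻¹ᵁ U),
      x.appLE U V hx = y.appLE U V hy := by
    rintro x _ rfl V hx hy
    rfl
  exact congr($(this _ _ (hsq n).symm (𝔷.lvU h𝔷.1 n (pre (pZ 0).base W)) _ _) a)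

end Sq

/-! ### The pull back square -/

section Base

theorem appLE_bB {X : Scheme.{u}} {U : X.Opens} (hU : IsAffineOpen U) {B : CommRingCat.{u}} (a : Γ(X, U) ⟶ B)
    (e : (⊤ : (Spec B).Opens) ≤ (Spec.map a ≫ hU.fromSpec) ⁻¹ᵁ U) :
    (Spec.map a ≫ hU.fromSpec).appLE U ⊤ e = a ≫ (Scheme.ΓSpecIso B).inv := by
  have e1 : (⊤ : (Spec B).Opens) ≤ (Spec.map a) ⁻¹ᵁ ⊤ := le_top
  have e2 : (⊤ : (Spec Γ(X, U)).Opens) ≤ hU.fromSpec ⁻¹ᵁ U := hU.fromSpec_preimage_self.ge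
  rw [← Scheme.Hom.appLE_comp_appLE (Spec.map a) hU.fromSpec U ⊤ ⊤ e2 e1]
  have e3 : hU.fromSpec.appLE U ⊤ e2 = (Scheme.ΓSpecIso Γ(X, U)).inv := by
    rw [Scheme.Hom.appLE, hU.fromSpec_app_self, Category.assoc, ← Functor.map_comp]
    exact (congr((Scheme.ΓSpecIso Γ(X, U)).inv ≫ $((Spec Γ(X, U)).presheaf.map_id (op ⊤)))).trans
      (Category.comp_id _)
  have e4 : (Spec.map a).appLE ⊤ ⊤ e1 = (Spec.map a).appTop := by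
    rw [Scheme.Hom.appLE, Scheme.Hom.appTop]
    exact (congr((Spec.map a).app ⊤ ≫ $((Spec B).presheaf.map_id (op ⊤)))).trans (Category.comp_id _)
  rw [e3, e4, Scheme.ΓSpecIso_inv_naturality]

theorem ModIso.comp_bijective {A B C : Type u} [CommRing A] [CommRing B] [CommRing C] {ρ : A →+* B} {J : Ideal A}
    (h : ModIso ρ J) (e : B →+* C) (he : Function.Bijective e) : ModIso (e.comp ρ) J where
  surj c := by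
    obtain ⟨b, rfl⟩ := he.2 c
    obtain ⟨a, ha⟩ := h.surj b
    refine ⟨a, ?_⟩
    rw [RingHom.comp_apply, ← map_sub, ← Ideal.map_map]
    exact Ideal.mem_map_of_mem e ha
  inj a ha := by
    rw [← Ideal.map_map, RingHom.comp_apply] at ha
    obtain ⟨b, hb, hb'⟩ := (Ideal.mem_map_iff_of_surjective e he.2).1 ha
    exact h.inj a (he.1 hb' ▸ hb)

end Base

section Gam

variable {𝔛 𝔷 : FSch.Sys.{u}} {X Z : Scheme.{u}} {f : Z ⟶ X}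
  (pX : ∀ n, 𝔛.X n ⟶ X) (hpX : ∀ n, 𝔛.ι n ≫ pX (n + 1) = pX n)
  (pZ : ∀ n, 𝔷.X n ⟶ Z) (hpZ : ∀ n, 𝔷.ι n ≫ pZ (n + 1) = pZ n)
  (h𝔛 : 𝔛.IsLocNoethFormal) (h𝔷 : 𝔷.IsLocNoethFormal) (φ : 𝔷 ⟶ 𝔛)
  (hsq : ∀ n, pZ n ≫ f = (φ : FSch.Hom 𝔷 𝔛).app n ≫ pX n)
  {U : X.Opens} (hU : IsAffineOpen U) {W : Z.Opens} (hWU : W ≤ f ⁻¹ᵁ U) (hW : IsAffineOpen W)

/-- `B = O_𝔛(U^)`. -/
abbrev BU (U : X.Opens) : CommRingCat.{u} := CommRingCat.of (O (𝔛.Osh h𝔛.1) (pre (pX 0).base U))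

/-- `Γ(X, U) → B`. -/
abbrev aMap (U : X.Opens) : Γ(X, U) ⟶ BU pX h𝔛 U := CommRingCat.ofHom (cm (sφ h𝔛.1 pX hpX) U)

/-- `Spec B ⟶ X`. -/
abbrev bB : Spec (BU pX h𝔛 U) ⟶ X := Spec.map (aMap pX hpX h𝔛 U) ≫ hU.fromSpec

theorem top_le_bB : (⊤ : (Spec (BU pX h𝔛 U)).Opens) ≤ (bB pX hpX h𝔛 hU) ⁻¹ᵁ U := by
  intro x _
  have : hU.fromSpec (Spec.map (aMap pX hpX h𝔛 U) x) ∈ hU.fromSpec.opensRange := ⟨_, rfl⟩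
  rw [hU.opensRange_fromSpec] at this
  exact this

variable {P : Scheme.{u}} {g : P ⟶ Z} (p : P ⟶ Spec (BU pX h𝔛 U)) (H : IsPullback g p f (bB pX hpX h𝔛 hU))

/-- `B → Γ(P, V)`. -/
def toB (V : P.Opens) : O (𝔛.Osh h𝔛.1) (pre (pX 0).base U) →+* Γ(P, V) :=
  (p.appLE ⊤ V le_top).hom.comp (Scheme.ΓSpecIso (BU pX h𝔛 U)).inv.hom

theorem toB_res {V V' : P.Opens} (h : V' ≤ V) (b : O (𝔛.Osh h𝔛.1) (pre (pX 0).base U)) :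
    P.presheaf.map (homOfLE h).op (toB pX h𝔛 p V b) = toB pX h𝔛 p V' b := by
  change P.presheaf.map (homOfLE h).op (p.appLE ⊤ V le_top _) = p.appLE ⊤ V' le_top _
  rw [← CommRingCat.comp_apply, Scheme.Hom.appLE_map]

include H hW in
theorem isPushout_W : IsPushout (f.appLE U W hWU) ((bB pX hpX h𝔛 hU).appLE U ⊤ (top_le_bB pX hpX h𝔛 hU))
    (g.appLE W (g ⁻¹ᵁ W) le_rfl) (p.appLE ⊤ (g ⁻¹ᵁ W) le_top) := by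
  have hUY : g ⁻¹ᵁ W = g ⁻¹ᵁ W ⊓ p ⁻¹ᵁ (⊤ : (Spec (BU pX h𝔛 U)).Opens) := (inf_top_eq _).symm
  exact (isIso_pushoutSection_iff H (top_le_bB pX hpX h𝔛 hU) hWU hUY).1
    (isIso_pushoutSection_of_isAffineOpen H (top_le_bB pX hpX h𝔛 hU) hWU hUY hU (isAffineOpen_top _) hW)

theorem gam_w : f.appLE U W hWU ≫ (CommRingCat.ofHom (cm (sφ h𝔷.1 pZ hpZ) W) :
      Γ(Z, W) ⟶ CommRingCat.of (O (𝔷.Osh h𝔷.1) (pre (pZ 0).base W))) =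
    (bB pX hpX h𝔛 hU).appLE U ⊤ (top_le_bB pX hpX h𝔛 hU) ≫
      (Scheme.ΓSpecIso (BU pX h𝔛 U)).hom ≫ CommRingCat.ofHom (bb pX pZ h𝔛 h𝔷 φ hsq hWU) := by
  rw [appLE_bB, Category.assoc, Iso.inv_hom_id_assoc]
  ext a
  exact (bb_cm pX hpX pZ hpZ h𝔛 h𝔷 φ hsq hWU a).symm

/-- `Γ(Z_B, g⁻¹ W) → O_𝔷(W^)`. -/
def gam : Γ(P, g ⁻¹ᵁ W) →+* O (𝔷.Osh h𝔷.1) (pre (pZ 0).base W) :=
  ((isPushout_W pX hpX h𝔛 hU hWU hW p H).desc _ _ (gam_w pX hpX pZ hpZ h𝔛 h𝔷 φ hsq hU hWU)).hom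

theorem gam_appLE (c : Γ(Z, W)) : gam pX hpX pZ hpZ h𝔛 h𝔷 φ hsq hU hWU hW p H (g.appLE W (g ⁻¹ᵁ W) le_rfl c) =
    cm (sφ h𝔷.1 pZ hpZ) W c :=
  congr($((isPushout_W pX hpX h𝔛 hU hWU hW p H).inl_desc _ _ (gam_w pX hpX pZ hpZ h𝔛 h𝔷 φ hsq hU hWU)) c)

theorem gam_toB (b : O (𝔛.Osh h𝔛.1) (pre (pX 0).base U)) :
    gam pX hpX pZ hpZ h𝔛 h𝔷 φ hsq hU hWU hW p H (toB pX h𝔛 p (g ⁻¹ᵁ W) b) = bb pX pZ h𝔛 h𝔷 φ hsq hWU b := by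
  have h1 : (Scheme.ΓSpecIso (BU pX h𝔛 U)).inv ≫ p.appLE ⊤ (g ⁻¹ᵁ W) le_top ≫
      (isPushout_W pX hpX h𝔛 hU hWU hW p H).desc _ _ (gam_w pX hpX pZ hpZ h𝔛 h𝔷 φ hsq hU hWU) =
      CommRingCat.ofHom (bb pX pZ h𝔛 h𝔷 φ hsq hWU) := by
    rw [(isPushout_W pX hpX h𝔛 hU hWU hW p H).inr_desc, Iso.inv_hom_id_assoc]
  exact congr($h1 b)

variable [IsLocallyNoetherian X] [IsLocallyNoetherian Z] [∀ n, IsClosedImmersion (pX n)]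
  [∀ n, IsClosedImmersion (pZ n)] (𝓘 : X.IdealSheafData) (hJX : ∀ n, (pX n).ker = 𝓘 ^ (n + 1))
  (hJZ : ∀ n, (pZ n).ker = (𝓘.comap f) ^ (n + 1))

include hJX hJZ in
/-- `Γ(Z_B, g⁻¹ W) → O_𝔷(W^)` is an isomorphism modulo the powers of the ideal of definition. -/
theorem modIso_gam (n : ℕ) : ModIso (gam pX hpX pZ hpZ h𝔛 h𝔷 φ hsq hU hWU hW p H)
    ((II h𝔛.1 (pre (pX 0).base U) ^ (n + 1)).map (toB pX h𝔛 p (g ⁻¹ᵁ W))) := by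
  let I1 : Ideal Γ(X, U) := 𝓘.ideal ⟨U, hU⟩
  let I2 : Ideal Γ(Z, W) := (𝓘.comap f).ideal ⟨W, hW⟩
  have h1 : ModIso (aMap pX hpX h𝔛 U).hom (I1 ^ (n + 1)) := modIso_cm pX hpX h𝔛 𝓘 hJX hU n
  have hb : Function.Bijective (Scheme.ΓSpecIso (BU pX h𝔛 U)).inv.hom :=
    (ConcreteCategory.isIso_iff_bijective _).1 inferInstance
  have h2 : ModIso ((bB pX hpX h𝔛 hU).appLE U ⊤ (top_le_bB pX hpX h𝔛 hU)).hom (I1 ^ (n + 1)) := by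
    rw [appLE_bB]
    exact ModIso.comp_bijective h1 _ hb
  have h3 := ModIso.of_isPushout (isPushout_W pX hpX h𝔛 hU hWU hW p H) h2
  have h4 : ModIso (A := Γ(Z, W)) (cm (sφ h𝔷.1 pZ hpZ) W) (I2 ^ (n + 1)) :=
    modIso_cm pZ hpZ h𝔷 (𝓘.comap f) hJZ hW n
  have h5 : (I1 ^ (n + 1)).map (f.appLE U W hWU).hom = I2 ^ (n + 1) := by
    rw [Ideal.map_pow]
    exact congrArg (fun J => J ^ (n + 1)) (Groth.Agent.Divis.IdealComap.ideal_comap 𝓘 f ⟨U, hU⟩ ⟨W, hW⟩ hWU).symm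
  have h6 : (gam pX hpX pZ hpZ h𝔛 h𝔷 φ hsq hU hWU hW p H).comp (g.appLE W (g ⁻¹ᵁ W) le_rfl).hom =
      (cm (sφ h𝔷.1 pZ hpZ) W : Γ(Z, W) →+* O (𝔷.Osh h𝔷.1) (pre (pZ 0).base W)) :=
    RingHom.ext fun c => gam_appLE pX hpX pZ hpZ h𝔛 h𝔷 φ hsq hU hWU hW p H c
  rw [h5] at h3
  have h7 := ModIso.of_comp h3 (by rw [h6]; exact h4)
  have h10 : (I1 ^ (n + 1)).map (aMap pX hpX h𝔛 U).hom = II h𝔛.1 (pre (pX 0).base U) ^ (n + 1) := by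
    rw [Ideal.map_pow]
    exact congrArg (fun J => J ^ (n + 1)) (map_JJ pX hpX h𝔛 𝓘 hJX hU)
  have h8 : (I2 ^ (n + 1)).map (g.appLE W (g ⁻¹ᵁ W) le_rfl).hom =
      (II h𝔛.1 (pre (pX 0).base U) ^ (n + 1)).map (toB pX h𝔛 p (g ⁻¹ᵁ W)) := by
    rw [← h5, Ideal.map_map, ← h10, Ideal.map_map]
    congr 1
    have h9 := (isPushout_W pX hpX h𝔛 hU hWU hW p H).w
    rw [appLE_bB] at h9
    exact congrArg CommRingCat.Hom.hom h9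
  rw [← h8]
  exact h7

end Gam

end K919.ZB
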